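import Cfsg.Agent.LyIndex33.Cover
import Cfsg.Agent.LyG2.Model
import Cfsg.Agent.LyCover50.LyFacts

/-!
The matrix group is the presented G₂(5); the certificate applied to the presented Lyons group.
-/

set_option autoImplicit false
set_option maxRecDepth 100000

namespace CfsgLib.Ly33

open CfsgLib.CosetEnum Cfsg.Spor

/-- the four generators -/
def hv : Fin 4 → Hg := ![hA, hB, hC, hD]

/-- codes of the letters -/
def letP (c : ℕ) : ℕ :=
  match c with
  | 0 => gA
  | 1 => invP gA
  | 2 => gB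
  | 3 => invP gB
  | 4 => gC
  | 5 => invP gC
  | 6 => gD
  | 7 => invP gD
  | _ => oneP

theorem enc_lets : ∀ c, enc (LyG2.lets hv c) = letP c
  | 0 => enc_A
  | 1 => (enc_inv hA).trans (congrArg invP enc_A)
  | 2 => enc_B
  | 3 => (enc_inv hB).trans (congrArg invP enc_B)
  | 4 => enc_C
  | 5 => (enc_inv hC).trans (congrArg invP enc_C)
  | 6 => enc_D
  | 7 => (enc_inv hD).trans (congrArg invP enc_D)
  | c + 8 => by
    rw [LyG2.lets, dif_neg (by omega)]
    exact enc_one

/-- code of a word -/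
def wordP : List ℕ → ℕ
  | [] => oneP
  | c :: w => mulP (letP c) (wordP w)

theorem enc_gword : ∀ w : List ℕ, enc (gword (LyG2.lets hv) w) = wordP w
  | [] => enc_one
  | c :: w => by rw [gword_cons, enc_mul, enc_lets, enc_gword w]; rfl

theorem relWords_ok : (LyG2.Tab.relWords.all fun w => Nat.beq (wordP w) oneP) = true := by
  decide +kernel

theorem hv_rels : ∀ w ∈ LyG2.Tab.relWords, gword (LyG2.lets hv) w = 1 := fun w hw =>
  enc_inj (by rw [enc_gword, enc_one]; exact Nat.eq_of_beq_eq_true (List.all_eq_true.1 relWords_ok w hw))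

theorem hv_gen : Subgroup.closure (Set.range hv) = ⊤ := by
  rw [eq_top_iff]
  rintro ⟨x, hx⟩ -
  have h2 : x ∈ (Subgroup.closure (Set.range hv)).map Hg.subtype := by
    rw [MonoidHom.map_closure]
    refine Subgroup.closure_mono ?_ hx
    intro y hy
    simp only [Set.mem_insert_iff, Set.mem_singleton_iff] at hy
    rcases hy with rfl | rfl | rfl | rfl
    · exact ⟨hA, ⟨0, rfl⟩, rfl⟩
    · exact ⟨hB, ⟨1, rfl⟩, rfl⟩
    · exact ⟨hC, ⟨2, rfl⟩, rfl⟩
    · exact ⟨hD, ⟨3, rfl⟩, rfl⟩
  obtain ⟨z, hz, hzx⟩ := h2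
  rwa [show (⟨x, hx⟩ : Hg) = z from Subtype.ext hzx.symm]

theorem hA_ne : hA ≠ 1 := fun h => absurd (enc_A.symm.trans ((congrArg enc h).trans enc_one))
  (by decide +kernel)

instance : Nontrivial Hg := ⟨⟨hA, 1, hA_ne⟩⟩

/-- the presented group is the matrix group -/
noncomputable def equivQ : LyG2.Q ≃* Hg := LyG2.equivOfGens hv_rels hv_gen

theorem card_Hg : Nat.card Hg = 5859000000 := by
  rw [← Nat.card_congr equivQ.toEquiv, Nat.card_congr LyG2.equiv.toEquiv, LyG2.card_group]

/-- the matrix group into the Lyons group -/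
noncomputable def phiLy : Hg →* Ly := LyG2.phi0 hv_rels hv_gen

theorem phiLy_A : phiLy hA = LyCover50.lg .a := LyG2.phi0_gen hv_rels hv_gen 0
theorem phiLy_B : phiLy hB = LyCover50.lg .b := LyG2.phi0_gen hv_rels hv_gen 1
theorem phiLy_C : phiLy hC = LyCover50.lg .c := LyG2.phi0_gen hv_rels hv_gen 2
theorem phiLy_D : phiLy hD = LyCover50.lg .d := LyG2.phi0_gen hv_rels hv_gen 3

theorem phiLy_injective : Function.Injective phiLy := LyG2.phi0_injective hv_rels hv_gen

theorem phiLy_range : phiLy.range =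
    (Subgroup.closure ({Ly.a, Ly.b, Ly.c, Ly.d} : Set (FreeGroup Ly.Gen))).map
      (PresentedGroup.mk (coxRelators Ly.edges ∪ {r | r ∈ Ly.extra})) :=
  (LyG2.phi0_range hv_rels hv_gen).trans LyG2.incl_range

/-- the certificate on the subgroup generated by a, b, c, d -/
noncomputable def lySetup : Setup ((Subgroup.closure ({Ly.a, Ly.b, Ly.c, Ly.d} : Set (FreeGroup Ly.Gen))).map
    (PresentedGroup.mk (coxRelators Ly.edges ∪ {r | r ∈ Ly.extra}))) where
  φ := phiLy
  t := LyCover50.lg .z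
  rels := by rw [phiLy_A, phiLy_B, phiLy_C, phiLy_D]; exact LyCover50.ly_zrels
  range_le := phiLy_range.le

theorem lySetup_gen : lySetup.φ.range ⊔ Subgroup.closure {lySetup.t} = ⊤ := by
  rw [eq_top_iff, ← LyCover50.ly_closure, Subgroup.closure_le]
  intro x hx
  simp only [Set.mem_insert_iff, Set.mem_singleton_iff] at hx
  rcases hx with rfl | rfl | rfl | rfl | rfl
  · exact Subgroup.mem_sup_left ⟨hA, phiLy_A⟩
  · exact Subgroup.mem_sup_left ⟨hB, phiLy_B⟩
  · exact Subgroup.mem_sup_left ⟨hC, phiLy_C⟩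
  · exact Subgroup.mem_sup_left ⟨hD, phiLy_D⟩
  · exact Subgroup.mem_sup_right (Subgroup.mem_closure_singleton_self _)

/-- the index bound in the presented group -/
theorem ly_index_le :
    ((Subgroup.closure ({Ly.a, Ly.b, Ly.c, Ly.d} : Set (FreeGroup Ly.Gen))).map
      (PresentedGroup.mk (coxRelators Ly.edges ∪ {r | r ∈ Ly.extra}))).FiniteIndex ∧
    ((Subgroup.closure ({Ly.a, Ly.b, Ly.c, Ly.d} : Set (FreeGroup Ly.Gen))).map
      (PresentedGroup.mk (coxRelators Ly.edges ∪ {r | r ∈ Ly.extra}))).index ≤ 8835156 :=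
  lySetup.index_le lySetup_gen

/-- the order bound over the presented G₂(5) -/
theorem card_le_Q (E : Type*) [Group E] (φ : LyG2.Q →* E) (t : E)
    (hz : LyCover50.ZRels (φ (PresentedGroup.of 0)) (φ (PresentedGroup.of 1)) (φ (PresentedGroup.of 2))
      (φ (PresentedGroup.of 3)) t)
    (hgen : Subgroup.closure ((φ.range : Set E) ∪ {t}) = ⊤) :
    Finite E ∧ Nat.card E ≤ 8835156 * 5859000000 := by
  have he : ∀ i, φ (PresentedGroup.of i) = (φ.comp equivQ.symm.toMonoidHom) (hv i) := fun i => by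
    show _ = φ (equivQ.symm (hv i))
    rw [show equivQ.symm (hv i) = PresentedGroup.of i from
      (MulEquiv.symm_apply_eq _).2 (LyG2.homOfGens_of hv_rels i).symm]
  rw [he, he, he, he] at hz
  refine card_le E (φ.comp equivQ.symm.toMonoidHom) t hz ?_
  have hr : (φ.comp equivQ.symm.toMonoidHom).range = φ.range :=
    le_antisymm (fun _ ⟨x, hx⟩ => ⟨equivQ.symm x, hx⟩) fun _ ⟨q, hq⟩ => ⟨equivQ q, by
      show φ (equivQ.symm (equivQ q)) = _
      rw [equivQ.symm_apply_apply, hq]⟩
  rw [hr]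
  exact hgen

end CfsgLib.Ly33
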