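import Mathlib.Data.ZMod.Basic
import Mathlib.Data.Matrix.Mul
import Mathlib.Data.Fintype.BigOperators
import Mathlib.Tactic.Ring
import Mathlib.Tactic.IntervalCases
import Mathlib.Tactic.NormNum
import Mathlib.Algebra.BigOperators.Fin

/-!
Seven by seven matrices over five elements as numbers with 49 digits of base 256.
-/

set_option autoImplicit false

namespace CfsgLib.Ly33

/-- the number with the given digits -/
def pk (f : ℕ → ℕ) : ℕ → ℕ
  | 0 => 0
  | m + 1 => f 0 + 256 * pk (fun i => f (i + 1)) m

theorem pk_congr : ∀ {m : ℕ} {f g : ℕ → ℕ}, (∀ i < m, f i = g i) → pk f m = pk g m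
  | 0, _, _, _ => rfl
  | m + 1, f, g, h => by
    simp only [pk, h 0 (Nat.succ_pos m)]
    rw [pk_congr fun i hi => h (i + 1) (Nat.succ_lt_succ hi)]

theorem pk_add : ∀ (m : ℕ) (f g : ℕ → ℕ), pk f m + pk g m = pk (fun i => f i + g i) m
  | 0, _, _ => rfl
  | m + 1, f, g => by simp only [pk]; rw [← pk_add m]; ring

theorem pk_smul : ∀ (m c : ℕ) (f : ℕ → ℕ), c * pk f m = pk (fun i => c * f i) m
  | 0, _, _ => by simp [pk]
  | m + 1, c, f => by simp only [pk]; rw [← pk_smul m]; ring

theorem land_cons {a b : ℕ} (ha : a < 256) (hb : b < 256) (x y : ℕ) :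
    (a + 256 * x) &&& (b + 256 * y) = (a &&& b) + 256 * (x &&& y) := by
  have hab : (a &&& b) < 2 ^ 8 := lt_of_le_of_lt Nat.and_le_left ha
  have e : ∀ u v : ℕ, u + 256 * v = 2 ^ 8 * v + u := fun u v => by ring
  rw [e, e, e]
  refine Nat.eq_of_testBit_eq fun j => ?_
  rw [Nat.testBit_and, Nat.testBit_two_pow_mul_add _ (show a < 2 ^ 8 from ha),
    Nat.testBit_two_pow_mul_add _ (show b < 2 ^ 8 from hb), Nat.testBit_two_pow_mul_add _ hab]
  split <;> simp [Nat.testBit_and]

theorem pk_and : ∀ {m : ℕ} {f g : ℕ → ℕ}, (∀ i < m, f i < 256) → (∀ i < m, g i < 256) →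
    pk f m &&& pk g m = pk (fun i => f i &&& g i) m
  | 0, _, _, _, _ => by simp [pk]
  | m + 1, f, g, hf, hg => by
    simp only [pk]
    rw [land_cons (hf 0 (Nat.succ_pos m)) (hg 0 (Nat.succ_pos m)),
      pk_and (fun i hi => hf (i + 1) (Nat.succ_lt_succ hi))
        fun i hi => hg (i + 1) (Nat.succ_lt_succ hi)]

theorem pk_shr_and (s k : ℕ) (hsk : s + k = 8) : ∀ {m : ℕ} {f : ℕ → ℕ}, (∀ i < m, f i < 256) →
    (pk f m >>> s) &&& pk (fun _ => 2 ^ k - 1) m = pk (fun i => f i / 2 ^ s) m
  | 0, _, _ => by simp [pk]
  | m + 1, f, hf => by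
    have h := pk_shr_and s k hsk (f := fun i => f (i + 1))
      fun i hi => hf (i + 1) (Nat.succ_lt_succ hi)
    simp only [pk, Nat.shiftRight_eq_div_pow] at h ⊢
    generalize pk (fun i => f (i + 1)) m = x at h ⊢
    have h2 : (2 : ℕ) ^ s * 2 ^ k = 256 := by rw [← pow_add, hsk]; norm_num
    have e : (f 0 + 256 * x) / 2 ^ s = f 0 / 2 ^ s + 2 ^ k * x := by
      rw [← h2, mul_assoc, Nat.add_mul_div_left _ _ (Nat.two_pow_pos s)]
    have ha : f 0 / 2 ^ s < 2 ^ k := by
      rw [Nat.div_lt_iff_lt_mul (Nat.two_pow_pos s), mul_comm, h2]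
      exact hf 0 (Nat.succ_pos m)
    have hx : 2 ^ k * x = 2 ^ k * (x % 2 ^ s) + 256 * (x / 2 ^ s) := by
      conv_lhs => rw [← Nat.mod_add_div x (2 ^ s)]
      rw [← h2]; ring
    have hlow : f 0 / 2 ^ s + 2 ^ k * (x % 2 ^ s) < 256 := by
      have h3 := Nat.mod_lt x (Nat.two_pow_pos s)
      have h4 : 2 ^ k * (x % 2 ^ s + 1) ≤ 2 ^ k * 2 ^ s := Nat.mul_le_mul_left _ h3
      rw [mul_comm (2 ^ k) (2 ^ s), h2, mul_add, mul_one] at h4
      omega
    have hk : 2 ^ k - 1 < 256 := by
      have : 2 ^ k ≤ 256 := by
        rw [← h2]; exact Nat.le_mul_of_pos_left _ (Nat.two_pow_pos s)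
      omega
    rw [e, hx, ← add_assoc, land_cons hlow hk, h, Nat.and_two_pow_sub_one_eq_mod,
      Nat.add_mul_mod_self_left, Nat.mod_eq_of_lt ha]

theorem pk_succ_last : ∀ (m : ℕ) (f : ℕ → ℕ), pk f (m + 1) = pk f m + f m * 256 ^ m
  | 0, f => by simp [pk]
  | m + 1, f => by
    conv_lhs => unfold pk
    rw [pk_succ_last m]
    conv_rhs => unfold pk
    ring

theorem pk_shift {m : ℕ} {f : ℕ → ℕ} (h0 : ∀ i, m ≤ i → f i = 0) (h1 : ∀ i, f i < 256) :
    ∀ k, pk f m / 256 ^ k = pk (fun i => f (i + k)) m
  | 0 => by simp
  | k + 1 => by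
    rw [pow_succ, ← Nat.div_div_eq_div_mul, pk_shift h0 h1 k]
    cases m with
    | zero => simp [pk]
    | succ m =>
      conv_lhs => unfold pk
      rw [Nat.add_mul_div_left _ _ (by norm_num : 0 < 256), Nat.div_eq_of_lt (h1 _), zero_add]
      rw [pk_succ_last m (fun i => f (i + (k + 1))), h0 (m + (k + 1)) (by omega), zero_mul, add_zero]
      exact pk_congr fun i _ => by congr 1; omega

/-- the reduction of digits below 113 -/
def red (x : ℕ) : ℕ :=
  let y := Nat.land x 593347858016293334020202015625692066711789014896420843940868418322759104323722700971885421250031670826264515618737935 + Nat.land (Nat.shiftRight x 4) 593347858016293334020202015625692066711789014896420843940868418322759104323722700971885421250031670826264515618737935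
  let z := Nat.land y 593347858016293334020202015625692066711789014896420843940868418322759104323722700971885421250031670826264515618737935 + Nat.land (Nat.shiftRight y 4) 593347858016293334020202015625692066711789014896420843940868418322759104323722700971885421250031670826264515618737935
  let w := z - 10 * Nat.land (Nat.shiftRight (z + 4667669816394840894292255856255444258132740250518510639001498224139038287346618580978831980500249143833280856200738422) 7) 39556523867752888934680134375046137780785934326428056262724561221517273621581513398125694750002111388417634374582529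
  w - 5 * Nat.land (Nat.shiftRight (w + 4865452435733605338965656528130674947036669922150650920315121030246624655454526147969460454250259700775369028073651067) 7) 39556523867752888934680134375046137780785934326428056262724561221517273621581513398125694750002111388417634374582529

/-- one outer product -/
def outer (a b k : ℕ) : ℕ :=
  Nat.land (Nat.shiftRight a (8 * k)) 35695931828458755101139803864120500641812911475587791203198052406255657015862613398293483560085047214335 * Nat.land (Nat.shiftRight b (56 * k)) 72057594037927935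

/-- product of packed matrices -/
def mulP (a b : ℕ) : ℕ :=
  red (outer a b 0 + outer a b 1 + outer a b 2 + outer a b 3 + outer a b 4 + outer a b 5 + outer a b 6)

/-- seven by seven matrices over five elements -/
abbrev Mat := Matrix (Fin 7) (Fin 7) (ZMod 5)

/-- the digits of a matrix -/
def dig (M : Mat) (i : ℕ) : ℕ :=
  if h : i < 49 then (M ⟨i / 7, by omega⟩ ⟨i % 7, by omega⟩).val else 0

/-- the code of a matrix -/
def pack (M : Mat) : ℕ := pk (dig M) 49

theorem dig_lt (M : Mat) (i : ℕ) : dig M i < 5 := by
  unfold dig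
  split
  · exact ZMod.val_lt _
  · norm_num

theorem dig_out (M : Mat) {i : ℕ} (h : 49 ≤ i) : dig M i = 0 := dif_neg (Nat.not_lt.2 h)

theorem dig_apply (M : Mat) (i j : Fin 7) : dig M (7 * i.1 + j.1) = (M i j).val := by
  rw [dig, dif_pos (by omega)]
  congr 2 <;> (ext; simp only; omega)

theorem dig_inj {M N : Mat} (h : ∀ i < 49, dig M i = dig N i) : M = N := by
  ext i j
  apply ZMod.val_injective
  rw [← dig_apply, ← dig_apply]
  exact h _ (by omega)

theorem pk_inj : ∀ {m : ℕ} {f g : ℕ → ℕ}, (∀ i < m, f i < 256) → (∀ i < m, g i < 256) →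
    pk f m = pk g m → ∀ i < m, f i = g i
  | 0, _, _, _, _, _, i, hi => absurd hi (Nat.not_lt_zero i)
  | m + 1, f, g, hf, hg, h, i, hi => by
    simp only [pk] at h
    have h0 := hf 0 (Nat.succ_pos m)
    have h0' := hg 0 (Nat.succ_pos m)
    cases i with
    | zero => omega
    | succ i =>
      exact pk_inj (fun j hj => hf (j + 1) (Nat.succ_lt_succ hj))
        (fun j hj => hg (j + 1) (Nat.succ_lt_succ hj)) (by omega) i (Nat.lt_of_succ_lt_succ hi)

theorem pack_inj : Function.Injective pack := fun M N h =>
  dig_inj (pk_inj (fun i _ => lt_trans (dig_lt M i) (by norm_num))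
    (fun i _ => lt_trans (dig_lt N i) (by norm_num)) h)

theorem colM_eq : (35695931828458755101139803864120500641812911475587791203198052406255657015862613398293483560085047214335 : ℕ) = pk (fun i => if i % 7 = 0 then 255 else 0) 49 := by decide +kernel

theorem rowM_eq : (72057594037927935 : ℕ) = pk (fun i => if i < 7 then 255 else 0) 49 := by decide +kernel

theorem k15_eq : (593347858016293334020202015625692066711789014896420843940868418322759104323722700971885421250031670826264515618737935 : ℕ) = pk (fun _ => 2 ^ 4 - 1) 49 := by decide +kernel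

theorem k1_eq : (39556523867752888934680134375046137780785934326428056262724561221517273621581513398125694750002111388417634374582529 : ℕ) = pk (fun _ => 2 ^ 1 - 1) 49 := by decide +kernel

theorem c118_eq : (4667669816394840894292255856255444258132740250518510639001498224139038287346618580978831980500249143833280856200738422 : ℕ) = pk (fun _ => 118) 49 := by decide +kernel

theorem c123_eq : (4865452435733605338965656528130674947036669922150650920315121030246624655454526147969460454250259700775369028073651067 : ℕ) = pk (fun _ => 123) 49 := by decide +kernel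

theorem and_255 {v : ℕ} (h : v < 256) : v &&& 255 = v := by
  rw [show (255 : ℕ) = 2 ^ 8 - 1 from rfl, Nat.and_two_pow_sub_one_eq_mod, Nat.mod_eq_of_lt h]

theorem col_eq (M : Mat) (k : ℕ) : Nat.land (Nat.shiftRight (pack M) (8 * k)) 35695931828458755101139803864120500641812911475587791203198052406255657015862613398293483560085047214335 =
    pk (fun i => if i % 7 = 0 then dig M (i + k) else 0) 49 := by
  have hb : ∀ i, dig M i < 256 := fun i => lt_trans (dig_lt M i) (by norm_num)
  show (pack M >>> (8 * k)) &&& _ = _
  rw [colM_eq, Nat.shiftRight_eq_div_pow, show (2 : ℕ) ^ (8 * k) = 256 ^ k from by rw [pow_mul]; norm_num,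
    pack, pk_shift (fun i hi => dig_out M hi) hb k,
    pk_and (fun i _ => hb _) (fun i _ => by split <;> norm_num)]
  exact pk_congr fun i _ => by split <;> simp [and_255 (hb _)]

theorem row_eq (M : Mat) (k : ℕ) : Nat.land (Nat.shiftRight (pack M) (56 * k)) 72057594037927935 =
    pk (fun i => if i < 7 then dig M (i + 7 * k) else 0) 49 := by
  have hb : ∀ i, dig M i < 256 := fun i => lt_trans (dig_lt M i) (by norm_num)
  show (pack M >>> (56 * k)) &&& _ = _
  rw [rowM_eq, Nat.shiftRight_eq_div_pow,
    show (2 : ℕ) ^ (56 * k) = 256 ^ (7 * k) from by rw [show 56 * k = 8 * (7 * k) by ring, pow_mul]; norm_num,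
    pack, pk_shift (fun i hi => dig_out M hi) hb (7 * k),
    pk_and (fun i _ => hb _) (fun i _ => by split <;> norm_num)]
  exact pk_congr fun i _ => by split <;> simp [and_255 (hb _)]

set_option maxRecDepth 100000 in
set_option maxHeartbeats 4000000 in
theorem outer_id (c r : ℕ → ℕ) :
    pk (fun i => if i % 7 = 0 then c i else 0) 49 * pk (fun i => if i < 7 then r i else 0) 49 =
      pk (fun i => c (7 * (i / 7)) * r (i % 7)) 49 := by
  norm_num [pk]
  ring

theorem outer_eq (M N : Mat) (k : ℕ) : outer (pack M) (pack N) k =
    pk (fun i => dig M (7 * (i / 7) + k) * dig N (i % 7 + 7 * k)) 49 := by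
  rw [outer, col_eq, row_eq]
  exact outer_id (fun i => dig M (i + k)) (fun i => dig N (i + 7 * k))

theorem red_spec (f : ℕ → ℕ) (hf : ∀ i < 49, f i < 113) :
    red (pk f 49) = pk (fun i => f i % 5) 49 := by
  have step : ∀ g : ℕ → ℕ, (∀ i < 49, g i < 256) →
      Nat.land (pk g 49) 593347858016293334020202015625692066711789014896420843940868418322759104323722700971885421250031670826264515618737935 + Nat.land (Nat.shiftRight (pk g 49) 4) 593347858016293334020202015625692066711789014896420843940868418322759104323722700971885421250031670826264515618737935 =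
        pk (fun i => g i % 16 + g i / 16) 49 := by
    intro g hg
    show (pk g 49 &&& _) + ((pk g 49 >>> 4) &&& _) = _
    rw [k15_eq, pk_shr_and 4 4 rfl hg, pk_and hg (fun i _ => by norm_num), pk_add]
    refine pk_congr fun i _ => ?_
    rw [Nat.and_two_pow_sub_one_eq_mod]
    norm_num
  have sub : ∀ (c : ℕ) (C : ℕ), C = pk (fun _ => 128 - c) 49 → ∀ g : ℕ → ℕ,
      (∀ i < 49, g i < 128) → c ≤ 128 →
      pk g 49 - c * Nat.land (Nat.shiftRight (pk g 49 + C) 7) 39556523867752888934680134375046137780785934326428056262724561221517273621581513398125694750002111388417634374582529 =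
        pk (fun i => g i - c * ((g i + (128 - c)) / 128)) 49 := by
    intro c C hC g hg hc
    show pk g 49 - c * (((pk g 49 + C) >>> 7) &&& _) = _
    rw [hC, pk_add, k1_eq, pk_shr_and 7 1 rfl (fun i hi => by have := hg i hi; omega), pk_smul]
    refine Nat.sub_eq_of_eq_add ?_
    rw [pk_add]
    refine pk_congr fun i hi => (Nat.sub_add_cancel ?_).symm
    have := hg i hi
    norm_num
    rcases Nat.lt_or_ge (g i + (128 - c)) 128 with h | h
    · rw [Nat.div_eq_of_lt h]; simp
    · rw [Nat.div_eq_of_lt_le (k := 1) (by omega) (by omega)]; omega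
  simp only [red]
  rw [step f (fun i hi => by have := hf i hi; omega),
    step _ (fun i hi => by have := hf i hi; omega),
    sub 10 _ c118_eq _ (fun i hi => by have := hf i hi; omega) (by norm_num),
    sub 5 _ c123_eq _ (fun i hi => by have := hf i hi; omega) (by norm_num)]
  refine pk_congr fun i hi => ?_
  have key : ∀ v < 113,
      ((v % 16 + v / 16) % 16 + (v % 16 + v / 16) / 16 -
          10 * (((v % 16 + v / 16) % 16 + (v % 16 + v / 16) / 16 + (128 - 10)) / 128)) -
        5 * (((v % 16 + v / 16) % 16 + (v % 16 + v / 16) / 16 -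
          10 * (((v % 16 + v / 16) % 16 + (v % 16 + v / 16) / 16 + (128 - 10)) / 128) + (128 - 5)) / 128) =
        v % 5 := by decide +kernel
  exact key _ (hf i hi)

theorem mulP_pack (M N : Mat) : mulP (pack M) (pack N) = pack (M * N) := by
  have hm : ∀ i k, dig M (7 * (i / 7) + k) * dig N (i % 7 + 7 * k) ≤ 16 := fun i k =>
    Nat.mul_le_mul (Nat.le_of_lt_succ (dig_lt M _)) (Nat.le_of_lt_succ (dig_lt N _))
  simp only [mulP, outer_eq, pk_add]
  rw [red_spec _ (fun i _ => by
    have := hm i 0; have := hm i 1; have := hm i 2; have := hm i 3; have := hm i 4; have := hm i 5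
    have := hm i 6; omega)]
  refine pk_congr fun i hi => ?_
  conv_rhs => rw [dig, dif_pos hi]
  rw [← ZMod.val_natCast, Matrix.mul_apply, Fin.sum_univ_seven]
  congr 1
  have hM : ∀ k : Fin 7, ((dig M (7 * (i / 7) + k.1) : ℕ) : ZMod 5) = M ⟨i / 7, by omega⟩ k := fun k => by
    rw [dig_apply M ⟨i / 7, by omega⟩ k, ZMod.natCast_zmod_val]
  have hN : ∀ k : Fin 7, ((dig N (i % 7 + 7 * k.1) : ℕ) : ZMod 5) = N k ⟨i % 7, by omega⟩ := fun k => by
    rw [add_comm, dig_apply N k ⟨i % 7, by omega⟩, ZMod.natCast_zmod_val]
  push_cast
  rw [← hM 0, ← hM 1, ← hM 2, ← hM 3, ← hM 4, ← hM 5, ← hM 6, ← hN 0, ← hN 1, ← hN 2, ← hN 3, ← hN 4,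
    ← hN 5, ← hN 6]
  rfl

set_option maxRecDepth 100000
set_option maxHeartbeats 1000000
set_option exponentiation.threshold 300
set_option linter.unusedVariables false

/-- transpose of a packed matrix -/
def transp (a : ℕ) : ℕ :=
  Nat.shiftRight (Nat.land a 35695931828458754605759236346559580682563725112177226962468576296610432946933815067007735049016238407680) 288
    + Nat.shiftRight (Nat.land a 9138158548085441179569745072236813567820776414957367423585769275890566412334268821637400765275485199400960) 240
    + Nat.shiftRight (Nat.land a 2339368588309872941969854738492624273368993548629209473585597023475175007379350290166922441893205631660195840) 192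
    + Nat.shiftRight (Nat.land a 598878358607327473144282813054111813982462348449077625238008244836529763231614010828611864080183780981415608320) 144
    + Nat.shiftRight (Nat.land a 153312859803475833124936400141852624379510361202963872060930110678151619387294510807823563585572323207806346854400) 96
    + Nat.shiftRight (Nat.land a 39248092109689813279983718436314271841154652467958751247598108333606814563147394766802832277906533115884904466350080) 48
    + Nat.land a 10047511580080592199675831919696453591335591031797440319385115733403344528165733060301525063144072477666535543385620735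
    + Nat.shiftLeft (Nat.land a 139437233704917010186305924564160363278925034322095481967089754724067115045995261250776423899489959680) 48
    + Nat.shiftLeft (Nat.land a 1935080341865472316841083674279216421106400912750748504840971813191029469253191270400) 96
    + Nat.shiftLeft (Nat.land a 26854634375482082609424889705896039320076619693482951401488798187520) 144
    + Nat.shiftLeft (Nat.land a 372682917519380244162142813783789576099711722455040) 192
    + Nat.shiftLeft (Nat.land a 5172014448931175958386924543016960) 240
    + Nat.shiftLeft (Nat.land a 71776119061217280) 288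

theorem diag0 (f : ℕ → ℕ) (hf : ∀ i, f i < 256) (h0 : ∀ i, 49 ≤ i → f i = 0) : Nat.shiftRight (Nat.land (pk f 49) 35695931828458754605759236346559580682563725112177226962468576296610432946933815067007735049016238407680) 288 =
    pk (fun i => if i = 6 then f (i + 36) else 0) 49 := by
  have e : Nat.land (pk f 49) 35695931828458754605759236346559580682563725112177226962468576296610432946933815067007735049016238407680 = pk (fun i => if i = 42 then f i else 0) 49 := by
    show pk f 49 &&& _ = _
    rw [show (35695931828458754605759236346559580682563725112177226962468576296610432946933815067007735049016238407680 : ℕ) = pk (fun i => if i = 42 then 255 else 0) 49 from by decide +kernel]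
    rw [pk_and (fun i _ => hf i) (fun i _ => by split <;> norm_num)]
    exact pk_congr fun i _ => by split <;> simp [and_255 (hf _)]
  rw [e]
  show _ >>> 288 = _
  rw [Nat.shiftRight_eq_div_pow, show (2 : ℕ) ^ 288 = 256 ^ 36 from by decide +kernel,
    pk_shift (fun i hi => by split <;> simp [h0 i hi]) (fun i => by split <;> simp [hf]) 36]
  exact pk_congr fun i _ => by
    refine if_congr ?_ rfl rfl
    omega

theorem diag1 (f : ℕ → ℕ) (hf : ∀ i, f i < 256) (h0 : ∀ i, 49 ≤ i → f i = 0) : Nat.shiftRight (Nat.land (pk f 49) 9138158548085441179569745072236813567820776414957367423585769275890566412334268821637400765275485199400960) 240 =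
    pk (fun i => if i = 5 ∨ i = 13 then f (i + 30) else 0) 49 := by
  have e : Nat.land (pk f 49) 9138158548085441179569745072236813567820776414957367423585769275890566412334268821637400765275485199400960 = pk (fun i => if i = 35 ∨ i = 43 then f i else 0) 49 := by
    show pk f 49 &&& _ = _
    rw [show (9138158548085441179569745072236813567820776414957367423585769275890566412334268821637400765275485199400960 : ℕ) = pk (fun i => if i = 35 ∨ i = 43 then 255 else 0) 49 from by decide +kernel]
    rw [pk_and (fun i _ => hf i) (fun i _ => by split <;> norm_num)]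
    exact pk_congr fun i _ => by split <;> simp [and_255 (hf _)]
  rw [e]
  show _ >>> 240 = _
  rw [Nat.shiftRight_eq_div_pow, show (2 : ℕ) ^ 240 = 256 ^ 30 from by decide +kernel,
    pk_shift (fun i hi => by split <;> simp [h0 i hi]) (fun i => by split <;> simp [hf]) 30]
  exact pk_congr fun i _ => by
    refine if_congr ?_ rfl rfl
    omega

theorem diag2 (f : ℕ → ℕ) (hf : ∀ i, f i < 256) (h0 : ∀ i, 49 ≤ i → f i = 0) : Nat.shiftRight (Nat.land (pk f 49) 2339368588309872941969854738492624273368993548629209473585597023475175007379350290166922441893205631660195840) 192 =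
    pk (fun i => if i = 4 ∨ i = 12 ∨ i = 20 then f (i + 24) else 0) 49 := by
  have e : Nat.land (pk f 49) 2339368588309872941969854738492624273368993548629209473585597023475175007379350290166922441893205631660195840 = pk (fun i => if i = 28 ∨ i = 36 ∨ i = 44 then f i else 0) 49 := by
    show pk f 49 &&& _ = _
    rw [show (2339368588309872941969854738492624273368993548629209473585597023475175007379350290166922441893205631660195840 : ℕ) = pk (fun i => if i = 28 ∨ i = 36 ∨ i = 44 then 255 else 0) 49 from by decide +kernel]
    rw [pk_and (fun i _ => hf i) (fun i _ => by split <;> norm_num)]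
    exact pk_congr fun i _ => by split <;> simp [and_255 (hf _)]
  rw [e]
  show _ >>> 192 = _
  rw [Nat.shiftRight_eq_div_pow, show (2 : ℕ) ^ 192 = 256 ^ 24 from by decide +kernel,
    pk_shift (fun i hi => by split <;> simp [h0 i hi]) (fun i => by split <;> simp [hf]) 24]
  exact pk_congr fun i _ => by
    refine if_congr ?_ rfl rfl
    omega

theorem diag3 (f : ℕ → ℕ) (hf : ∀ i, f i < 256) (h0 : ∀ i, 49 ≤ i → f i = 0) : Nat.shiftRight (Nat.land (pk f 49) 598878358607327473144282813054111813982462348449077625238008244836529763231614010828611864080183780981415608320) 144 =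
    pk (fun i => if i = 3 ∨ i = 11 ∨ i = 19 ∨ i = 27 then f (i + 18) else 0) 49 := by
  have e : Nat.land (pk f 49) 598878358607327473144282813054111813982462348449077625238008244836529763231614010828611864080183780981415608320 = pk (fun i => if i = 21 ∨ i = 29 ∨ i = 37 ∨ i = 45 then f i else 0) 49 := by
    show pk f 49 &&& _ = _
    rw [show (598878358607327473144282813054111813982462348449077625238008244836529763231614010828611864080183780981415608320 : ℕ) = pk (fun i => if i = 21 ∨ i = 29 ∨ i = 37 ∨ i = 45 then 255 else 0) 49 from by decide +kernel]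
    rw [pk_and (fun i _ => hf i) (fun i _ => by split <;> norm_num)]
    exact pk_congr fun i _ => by split <;> simp [and_255 (hf _)]
  rw [e]
  show _ >>> 144 = _
  rw [Nat.shiftRight_eq_div_pow, show (2 : ℕ) ^ 144 = 256 ^ 18 from by decide +kernel,
    pk_shift (fun i hi => by split <;> simp [h0 i hi]) (fun i => by split <;> simp [hf]) 18]
  exact pk_congr fun i _ => by
    refine if_congr ?_ rfl rfl
    omega

theorem diag4 (f : ℕ → ℕ) (hf : ∀ i, f i < 256) (h0 : ∀ i, 49 ≤ i → f i = 0) : Nat.shiftRight (Nat.land (pk f 49) 153312859803475833124936400141852624379510361202963872060930110678151619387294510807823563585572323207806346854400) 96 =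
    pk (fun i => if i = 2 ∨ i = 10 ∨ i = 18 ∨ i = 26 ∨ i = 34 then f (i + 12) else 0) 49 := by
  have e : Nat.land (pk f 49) 153312859803475833124936400141852624379510361202963872060930110678151619387294510807823563585572323207806346854400 = pk (fun i => if i = 14 ∨ i = 22 ∨ i = 30 ∨ i = 38 ∨ i = 46 then f i else 0) 49 := by
    show pk f 49 &&& _ = _
    rw [show (153312859803475833124936400141852624379510361202963872060930110678151619387294510807823563585572323207806346854400 : ℕ) = pk (fun i => if i = 14 ∨ i = 22 ∨ i = 30 ∨ i = 38 ∨ i = 46 then 255 else 0) 49 from by decide +kernel]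
    rw [pk_and (fun i _ => hf i) (fun i _ => by split <;> norm_num)]
    exact pk_congr fun i _ => by split <;> simp [and_255 (hf _)]
  rw [e]
  show _ >>> 96 = _
  rw [Nat.shiftRight_eq_div_pow, show (2 : ℕ) ^ 96 = 256 ^ 12 from by decide +kernel,
    pk_shift (fun i hi => by split <;> simp [h0 i hi]) (fun i => by split <;> simp [hf]) 12]
  exact pk_congr fun i _ => by
    refine if_congr ?_ rfl rfl
    omega

theorem diag5 (f : ℕ → ℕ) (hf : ∀ i, f i < 256) (h0 : ∀ i, 49 ≤ i → f i = 0) : Nat.shiftRight (Nat.land (pk f 49) 39248092109689813279983718436314271841154652467958751247598108333606814563147394766802832277906533115884904466350080) 48 =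
    pk (fun i => if i = 1 ∨ i = 9 ∨ i = 17 ∨ i = 25 ∨ i = 33 ∨ i = 41 then f (i + 6) else 0) 49 := by
  have e : Nat.land (pk f 49) 39248092109689813279983718436314271841154652467958751247598108333606814563147394766802832277906533115884904466350080 = pk (fun i => if i = 7 ∨ i = 15 ∨ i = 23 ∨ i = 31 ∨ i = 39 ∨ i = 47 then f i else 0) 49 := by
    show pk f 49 &&& _ = _
    rw [show (39248092109689813279983718436314271841154652467958751247598108333606814563147394766802832277906533115884904466350080 : ℕ) = pk (fun i => if i = 7 ∨ i = 15 ∨ i = 23 ∨ i = 31 ∨ i = 39 ∨ i = 47 then 255 else 0) 49 from by decide +kernel]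
    rw [pk_and (fun i _ => hf i) (fun i _ => by split <;> norm_num)]
    exact pk_congr fun i _ => by split <;> simp [and_255 (hf _)]
  rw [e]
  show _ >>> 48 = _
  rw [Nat.shiftRight_eq_div_pow, show (2 : ℕ) ^ 48 = 256 ^ 6 from by decide +kernel,
    pk_shift (fun i hi => by split <;> simp [h0 i hi]) (fun i => by split <;> simp [hf]) 6]
  exact pk_congr fun i _ => by
    refine if_congr ?_ rfl rfl
    omega

theorem diag6 (f : ℕ → ℕ) (hf : ∀ i, f i < 256) (h0 : ∀ i, 49 ≤ i → f i = 0) : Nat.land (pk f 49) 10047511580080592199675831919696453591335591031797440319385115733403344528165733060301525063144072477666535543385620735 =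
    pk (fun i => if i = 0 ∨ i = 8 ∨ i = 16 ∨ i = 24 ∨ i = 32 ∨ i = 40 ∨ i = 48 then f (i) else 0) 49 := by
  have e : Nat.land (pk f 49) 10047511580080592199675831919696453591335591031797440319385115733403344528165733060301525063144072477666535543385620735 = pk (fun i => if i = 0 ∨ i = 8 ∨ i = 16 ∨ i = 24 ∨ i = 32 ∨ i = 40 ∨ i = 48 then f i else 0) 49 := by
    show pk f 49 &&& _ = _
    rw [show (10047511580080592199675831919696453591335591031797440319385115733403344528165733060301525063144072477666535543385620735 : ℕ) = pk (fun i => if i = 0 ∨ i = 8 ∨ i = 16 ∨ i = 24 ∨ i = 32 ∨ i = 40 ∨ i = 48 then 255 else 0) 49 from by decide +kernel]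
    rw [pk_and (fun i _ => hf i) (fun i _ => by split <;> norm_num)]
    exact pk_congr fun i _ => by split <;> simp [and_255 (hf _)]
  exact e

theorem diag7 (f : ℕ → ℕ) (hf : ∀ i, f i < 256) (h0 : ∀ i, 49 ≤ i → f i = 0) : Nat.shiftLeft (Nat.land (pk f 49) 139437233704917010186305924564160363278925034322095481967089754724067115045995261250776423899489959680) 48 =
    pk (fun i => if i = 7 ∨ i = 15 ∨ i = 23 ∨ i = 31 ∨ i = 39 ∨ i = 47 then f (i - 6) else 0) 49 := by
  have e : Nat.land (pk f 49) 139437233704917010186305924564160363278925034322095481967089754724067115045995261250776423899489959680 = pk (fun i => if i = 1 ∨ i = 9 ∨ i = 17 ∨ i = 25 ∨ i = 33 ∨ i = 41 then f i else 0) 49 := by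
    show pk f 49 &&& _ = _
    rw [show (139437233704917010186305924564160363278925034322095481967089754724067115045995261250776423899489959680 : ℕ) = pk (fun i => if i = 1 ∨ i = 9 ∨ i = 17 ∨ i = 25 ∨ i = 33 ∨ i = 41 then 255 else 0) 49 from by decide +kernel]
    rw [pk_and (fun i _ => hf i) (fun i _ => by split <;> norm_num)]
    exact pk_congr fun i _ => by split <;> simp [and_255 (hf _)]
  rw [e]
  show _ <<< 48 = _
  rw [Nat.shiftLeft_eq, show (2 : ℕ) ^ 48 = 256 ^ 6 from by decide +kernel]
  norm_num [pk]
  ring

theorem diag8 (f : ℕ → ℕ) (hf : ∀ i, f i < 256) (h0 : ∀ i, 49 ≤ i → f i = 0) : Nat.shiftLeft (Nat.land (pk f 49) 1935080341865472316841083674279216421106400912750748504840971813191029469253191270400) 96 =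
    pk (fun i => if i = 14 ∨ i = 22 ∨ i = 30 ∨ i = 38 ∨ i = 46 then f (i - 12) else 0) 49 := by
  have e : Nat.land (pk f 49) 1935080341865472316841083674279216421106400912750748504840971813191029469253191270400 = pk (fun i => if i = 2 ∨ i = 10 ∨ i = 18 ∨ i = 26 ∨ i = 34 then f i else 0) 49 := by
    show pk f 49 &&& _ = _
    rw [show (1935080341865472316841083674279216421106400912750748504840971813191029469253191270400 : ℕ) = pk (fun i => if i = 2 ∨ i = 10 ∨ i = 18 ∨ i = 26 ∨ i = 34 then 255 else 0) 49 from by decide +kernel]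
    rw [pk_and (fun i _ => hf i) (fun i _ => by split <;> norm_num)]
    exact pk_congr fun i _ => by split <;> simp [and_255 (hf _)]
  rw [e]
  show _ <<< 96 = _
  rw [Nat.shiftLeft_eq, show (2 : ℕ) ^ 96 = 256 ^ 12 from by decide +kernel]
  norm_num [pk]
  ring

theorem diag9 (f : ℕ → ℕ) (hf : ∀ i, f i < 256) (h0 : ∀ i, 49 ≤ i → f i = 0) : Nat.shiftLeft (Nat.land (pk f 49) 26854634375482082609424889705896039320076619693482951401488798187520) 144 =
    pk (fun i => if i = 21 ∨ i = 29 ∨ i = 37 ∨ i = 45 then f (i - 18) else 0) 49 := by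
  have e : Nat.land (pk f 49) 26854634375482082609424889705896039320076619693482951401488798187520 = pk (fun i => if i = 3 ∨ i = 11 ∨ i = 19 ∨ i = 27 then f i else 0) 49 := by
    show pk f 49 &&& _ = _
    rw [show (26854634375482082609424889705896039320076619693482951401488798187520 : ℕ) = pk (fun i => if i = 3 ∨ i = 11 ∨ i = 19 ∨ i = 27 then 255 else 0) 49 from by decide +kernel]
    rw [pk_and (fun i _ => hf i) (fun i _ => by split <;> norm_num)]
    exact pk_congr fun i _ => by split <;> simp [and_255 (hf _)]
  rw [e]
  show _ <<< 144 = _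
  rw [Nat.shiftLeft_eq, show (2 : ℕ) ^ 144 = 256 ^ 18 from by decide +kernel]
  norm_num [pk]
  ring

theorem diag10 (f : ℕ → ℕ) (hf : ∀ i, f i < 256) (h0 : ∀ i, 49 ≤ i → f i = 0) : Nat.shiftLeft (Nat.land (pk f 49) 372682917519380244162142813783789576099711722455040) 192 =
    pk (fun i => if i = 28 ∨ i = 36 ∨ i = 44 then f (i - 24) else 0) 49 := by
  have e : Nat.land (pk f 49) 372682917519380244162142813783789576099711722455040 = pk (fun i => if i = 4 ∨ i = 12 ∨ i = 20 then f i else 0) 49 := by
    show pk f 49 &&& _ = _
    rw [show (372682917519380244162142813783789576099711722455040 : ℕ) = pk (fun i => if i = 4 ∨ i = 12 ∨ i = 20 then 255 else 0) 49 from by decide +kernel]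
    rw [pk_and (fun i _ => hf i) (fun i _ => by split <;> norm_num)]
    exact pk_congr fun i _ => by split <;> simp [and_255 (hf _)]
  rw [e]
  show _ <<< 192 = _
  rw [Nat.shiftLeft_eq, show (2 : ℕ) ^ 192 = 256 ^ 24 from by decide +kernel]
  norm_num [pk]
  ring

theorem diag11 (f : ℕ → ℕ) (hf : ∀ i, f i < 256) (h0 : ∀ i, 49 ≤ i → f i = 0) : Nat.shiftLeft (Nat.land (pk f 49) 5172014448931175958386924543016960) 240 =
    pk (fun i => if i = 35 ∨ i = 43 then f (i - 30) else 0) 49 := by
  have e : Nat.land (pk f 49) 5172014448931175958386924543016960 = pk (fun i => if i = 5 ∨ i = 13 then f i else 0) 49 := by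
    show pk f 49 &&& _ = _
    rw [show (5172014448931175958386924543016960 : ℕ) = pk (fun i => if i = 5 ∨ i = 13 then 255 else 0) 49 from by decide +kernel]
    rw [pk_and (fun i _ => hf i) (fun i _ => by split <;> norm_num)]
    exact pk_congr fun i _ => by split <;> simp [and_255 (hf _)]
  rw [e]
  show _ <<< 240 = _
  rw [Nat.shiftLeft_eq, show (2 : ℕ) ^ 240 = 256 ^ 30 from by decide +kernel]
  norm_num [pk]
  ring

theorem diag12 (f : ℕ → ℕ) (hf : ∀ i, f i < 256) (h0 : ∀ i, 49 ≤ i → f i = 0) : Nat.shiftLeft (Nat.land (pk f 49) 71776119061217280) 288 =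
    pk (fun i => if i = 42 then f (i - 36) else 0) 49 := by
  have e : Nat.land (pk f 49) 71776119061217280 = pk (fun i => if i = 6 then f i else 0) 49 := by
    show pk f 49 &&& _ = _
    rw [show (71776119061217280 : ℕ) = pk (fun i => if i = 6 then 255 else 0) 49 from by decide +kernel]
    rw [pk_and (fun i _ => hf i) (fun i _ => by split <;> norm_num)]
    exact pk_congr fun i _ => by split <;> simp [and_255 (hf _)]
  rw [e]
  show _ <<< 288 = _
  rw [Nat.shiftLeft_eq, show (2 : ℕ) ^ 288 = 256 ^ 36 from by decide +kernel]
  norm_num [pk]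
  ring

set_option maxHeartbeats 4000000 in
theorem transp_pack (M : Mat) : transp (pack M) = pack M.transpose := by
  have hb : ∀ i, dig M i < 256 := fun i => lt_trans (dig_lt M i) (by norm_num)
  have h0 : ∀ i, 49 ≤ i → dig M i = 0 := fun i hi => dig_out M hi
  unfold transp pack
  rw [diag0 (dig M) hb h0, diag1 (dig M) hb h0, diag2 (dig M) hb h0, diag3 (dig M) hb h0, diag4 (dig M) hb h0, diag5 (dig M) hb h0, diag6 (dig M) hb h0, diag7 (dig M) hb h0, diag8 (dig M) hb h0, diag9 (dig M) hb h0, diag10 (dig M) hb h0, diag11 (dig M) hb h0, diag12 (dig M) hb h0]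
  rw [pk_add, pk_add, pk_add, pk_add, pk_add, pk_add, pk_add, pk_add, pk_add, pk_add, pk_add, pk_add]
  apply pk_congr
  intro i hi
  have ht : dig M.transpose i = dig M (7 * (i % 7) + i / 7) := by
    unfold dig
    rw [dif_pos hi, dif_pos (by omega), Matrix.transpose_apply]
    congr 2 <;> (ext; simp only; omega)
  rw [ht]
  interval_cases i <;> simp

end CfsgLib.Ly33
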