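import Cfsg.Agent.LyIndex33.Group
import Cfsg.Agent.LyIndex33.Tables

/-!
The parabolic pieces: the decomposition of every element and the bound on the order.
-/

set_option autoImplicit false
set_option maxRecDepth 100000

namespace CfsgLib.Ly33

/-- power -/
def powP (a : ℕ) : ℕ → ℕ
  | 0 => oneP
  | k + 1 => mulP (powP a k) a

/-- all below a bound -/
def allLt (f : ℕ → Bool) : ℕ → Bool
  | 0 => true
  | k + 1 => allLt f k && f k

theorem allLt_spec {f : ℕ → Bool} : ∀ {k : ℕ}, allLt f k = true → ∀ i < k, f i = true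
  | 0, _, i, hi => absurd hi (Nat.not_lt_zero i)
  | k + 1, h, i, hi => by
    simp only [allLt, Bool.and_eq_true] at h
    rcases Nat.lt_succ_iff_lt_or_eq.1 hi with hi | rfl
    · exact allLt_spec h.1 i hi
    · exact h.2

/-- the seeds lie in the groups -/
def seedsOK : Bool :=
  allLt (fun k => Nat.blt (sElIx k) 165 && (Nat.blt (sImIx k) 10489 &&
    (Nat.beq (sEl k) (el (sElIx k)) && Nat.beq (sIm k) (el (sImIx k))))) 8

/-- the tables of powers -/
def tablesOK : Bool :=
  allLt (fun i => allLt (fun j =>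
    (Nat.beq (xEl (5 * i + j)) (mulP (powP (sEl 0) i) (powP (sEl 1) j)) &&
    Nat.beq (xIm (5 * i + j)) (mulP (powP (sIm 0) i) (powP (sIm 1) j))) &&
    (Nat.beq (yEl (5 * i + j)) (mulP (powP (sEl 2) i) (powP (sEl 3) j)) &&
    Nat.beq (yIm (5 * i + j)) (mulP (powP (sIm 2) i) (powP (sIm 3) j)))) 5 &&
    (Nat.beq (zEl i) (powP (sEl 4) i) && Nat.beq (zIm i) (powP (sIm 4) i))) 5 &&
  Nat.beq (pEl (0, 0, 0, 0)) oneP

/-- the Levi table and the action of the seeds -/
def leviOK (N : ℕ) : Bool :=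
  allLt (fun L =>
    (bif Nat.beq L 0 then Nat.beq (lwEl L) oneP && Nat.beq (lwIm L) oneP else
      Nat.blt (lwPar L) L && (Nat.blt (lwGen L) 8 &&
        (Nat.beq (lwEl L) (mulP (lwEl (lwPar L)) (sEl (lwGen L))) &&
        Nat.beq (lwIm L) (mulP (lwIm (lwPar L)) (sIm (lwGen L)))))) &&
    (allLt (fun k => inC (mulP (lwEl L) (sEl k))) 8 &&
    allLt (fun k => let p := cparts (mulP (lwEl L) (sEl (5 + k)))
      Nat.beq p.1 0 && (Nat.beq p.2.1 0 && Nat.beq p.2.2.1 0)) 3)) N

/-- the unipotent part is closed under its seeds -/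
def unipRange (s : ℕ) : ℕ → Bool
  | 0 => true
  | k + 1 => unipRange s k && allLt (fun j => allLt (fun m => allLt (fun g =>
      let c := mulP (mulP (mulP (xEl (s + k)) (yEl j)) (zEl m)) (sEl g)
      inC c && Nat.beq (cparts c).2.2.2 0) 5) 5) 25

/-- membership in the maximal parabolic subgroup -/
def inPar (x : ℕ) : Bool :=
  let i := blIx (glIx x)
  Nat.blt i 5 && inC (mulP x (r5I i))

/-- five cosets -/
def fiveOK : Bool :=
  allLt (fun i => Nat.blt (r5Ix i) 165 && (Nat.blt (r5IIx i) 165 &&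
    (Nat.beq (mulP (r5I i) (r5 i)) oneP &&
    (inPar (mulP (r5 i) gA) && (inPar (mulP (r5 i) gB) && inPar (mulP (r5 i) gC)))))) 5 &&
  (Nat.beq (r5 0) oneP && Nat.beq (tq 0) oneP)

/-- the transversal is closed under the generators -/
def transRange (s : ℕ) : ℕ → Bool
  | 0 => true
  | k + 1 => transRange s k && (
      let q := s + k
      Nat.blt (tqIx q) 10489 && (Nat.blt (tiIx q) 10489 && (Nat.beq (mulP (ti q) (tq q)) oneP &&
      (allLt (fun g => Nat.blt (trq (4 * q + g)) 3906) 4 &&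
      (inPar (mulP (mulP (tq q) gA) (ti (trq (4 * q)))) && (inPar (mulP (mulP (tq q) gB) (ti (trq (4 * q + 1)))) &&
      (inPar (mulP (mulP (tq q) gC) (ti (trq (4 * q + 2)))) && inPar (mulP (mulP (tq q) gD) (ti (trq (4 * q + 3)))))))))))

end CfsgLib.Ly33
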