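import Cfsg.Agent.DCosetCert22.Closure
import Cfsg.Agent.LyIndex33.CosetDefs
import Cfsg.Agent.LyIndex33.Facts
import Cfsg.Agent.LyIndex33.Links

/-!
Boolean checks of the closure of the enumeration.
-/

set_option autoImplicit false

namespace CfsgLib.Ly33

open CfsgLib.DCert22

/-- the live nodes -/
def live : List ℕ := [0, 1, 3, 4, 5]

/-- a point as an element -/
def repP (p : ℕ) : ℕ := mulP (ti (Nat.div p 5)) (r5I (Nat.mod p 5))

/-- a fact fixing a node: its element -/
def fixFact (a f : ℕ) : Option ℕ :=
  match factsAll.get f with
  | some z => bif Nat.blt f 963 && (!z.e && (Nat.beq z.a a && (Nat.beq z.b a && Nat.beq z.y oneP))) then some z.x else none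
  | none => none

/-- one point with its edge -/
def ptOK (a : ℕ) : ℕ × ℕ × ℕ × ℕ → Bool
  | (p, r, ef, kf) =>
    Nat.blt p 19530 && (Nat.blt r 19530 &&
    ((match step code factsAll 963 (.t ef true) (a, repP r) with
      | some (b, _) => live.contains b
      | none => false) &&
    (match kf with
      | 0 => Nat.beq p r
      | f + 1 =>
        match fixFact a f with
        | some k => inC (mulP (mulP (r5 (Nat.mod p 5)) (tq (Nat.div p 5))) (mulP k (repP r)))
        | none => false)))

/-- the roots are covered -/
def rootsOK (roots : List ℕ) (pts : List (ℕ × ℕ × ℕ × ℕ)) : Bool :=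
  roots.all fun q => Nat.blt q 3906 && allLt (fun i => pts.any fun z => Nat.beq z.1 (5 * q + i)) 5

/-- links in a range -/
def linkRange (a nl : ℕ) (ly lq lf lp : ℕ → ℕ) (roots : List ℕ) (s : ℕ) : ℕ → Bool
  | 0 => true
  | k + 1 => linkRange a nl ly lq lf lp roots s k && (
      let m := s + k
      let y := ly m
      let q := lq m
      Nat.blt q 3906 && (Nat.blt y 3906 &&
      ((bif Nat.beq (lp q) 0 then roots.contains q else Nat.ble (lp q) m && Nat.beq (ly (lp q - 1)) q) &&
      (match fixFact a (lf m) with
        | some k => inPar (mulP (tq y) (mulP k (ti q)))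
        | none => false))))

/-- every coset of the parabolic subgroup is reached -/
def coverOK (nl : ℕ) (ly lp : ℕ → ℕ) (roots : List ℕ) (s : ℕ) : ℕ → Bool
  | 0 => true
  | k + 1 => coverOK nl ly lp roots s k && (
      let q := s + k
      bif Nat.beq (lp q) 0 then roots.contains q else Nat.ble (lp q) nl && Nat.beq (ly (lp q - 1)) q)

/-- canonical column vectors -/
def canonV (p : ℕ) : Bool :=
  Nat.blt p (256 ^ 49) && allLt (fun i => Nat.blt (dg p i) 5) 49

/-- image of a vector -/
def imgV (x p : ℕ) : ℕ := bif canonV p then mulP x p else p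

/-- the listed letters agree with the table -/
def lettersOK : VT → ℕ → Option ℕ
  | .nil, i => some i
  | .node v l r, i =>
    match lettersOK l i with
    | some j => bif Nat.blt j 865 && (Nat.blt (letIx j) 10489 && Nat.beq v (el (letIx j))) then lettersOK r (j + 1) else none
    | none => none

end CfsgLib.Ly33
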