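import Cfsg.Agent.LyIndex33.Check

/-!
Kernel checks of the facts, points and levels.
-/

set_option autoImplicit false
set_option maxRecDepth 100000

namespace CfsgLib.Ly33

open CfsgLib.DCert22

theorem facts_ok0 : rangeOK code cert 0 500 = true := by decide +kernel

theorem facts_ok1 : rangeOK code cert 500 463 = true := by decide +kernel

theorem letters_ok : (lettersOK lettersT 0).isSome = true := by decide +kernel

theorem pts_ok0 : (pts0.all (ptOK 0) && rootsOK roots0 pts0) = true := by decide +kernel

theorem pts_ok1 : (pts1.all (ptOK 1) && rootsOK roots1 pts1) = true := by decide +kernel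

theorem levels_ok1 : levelsOK imgV code cert 963 1 [] levels1 = true := by decide +kernel

theorem pts_ok3 : (pts3.all (ptOK 3) && rootsOK roots3 pts3) = true := by decide +kernel

theorem levels_ok3 : levelsOK imgV code cert 963 3 [] levels3 = true := by decide +kernel

theorem pts_ok4 : (pts4.all (ptOK 4) && rootsOK roots4 pts4) = true := by decide +kernel

theorem levels_ok4 : levelsOK imgV code cert 963 4 [] levels4 = true := by decide +kernel

theorem pts_ok5 : (pts5.all (ptOK 5) && rootsOK roots5 pts5) = true := by decide +kernel

theorem levels_ok5 : levelsOK imgV code cert 963 5 [] levels5 = true := by decide +kernel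

end CfsgLib.Ly33
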