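import Cfsg.Agent.LyIndex33.Check

/-!
Kernel checks of the links at node 0.
-/

set_option autoImplicit false
set_option maxRecDepth 100000

namespace CfsgLib.Ly33

theorem links_ok0_0 : linkRange 0 3905 ly0 lq0 lf0 lp0 roots0 0 1000 = true := by decide +kernel

theorem links_ok0_1 : linkRange 0 3905 ly0 lq0 lf0 lp0 roots0 1000 1000 = true := by decide +kernel

theorem links_ok0_2 : linkRange 0 3905 ly0 lq0 lf0 lp0 roots0 2000 1000 = true := by decide +kernel

theorem links_ok0_3 : linkRange 0 3905 ly0 lq0 lf0 lp0 roots0 3000 905 = true := by decide +kernel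

theorem cover_ok0_0 : coverOK 3905 ly0 lp0 roots0 0 1000 = true := by decide +kernel

theorem cover_ok0_1 : coverOK 3905 ly0 lp0 roots0 1000 1000 = true := by decide +kernel

theorem cover_ok0_2 : coverOK 3905 ly0 lp0 roots0 2000 1000 = true := by decide +kernel

theorem cover_ok0_3 : coverOK 3905 ly0 lp0 roots0 3000 906 = true := by decide +kernel

end CfsgLib.Ly33
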