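import Cfsg.Agent.LyIndex33.Check

/-!
Kernel checks of the links at node 3.
-/

set_option autoImplicit false
set_option maxRecDepth 100000

namespace CfsgLib.Ly33

theorem links_ok3_0 : linkRange 3 3901 ly3 lq3 lf3 lp3 roots3 0 1000 = true := by decide +kernel

theorem links_ok3_1 : linkRange 3 3901 ly3 lq3 lf3 lp3 roots3 1000 1000 = true := by decide +kernel

theorem links_ok3_2 : linkRange 3 3901 ly3 lq3 lf3 lp3 roots3 2000 1000 = true := by decide +kernel

theorem links_ok3_3 : linkRange 3 3901 ly3 lq3 lf3 lp3 roots3 3000 901 = true := by decide +kernel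

theorem cover_ok3_0 : coverOK 3901 ly3 lp3 roots3 0 1000 = true := by decide +kernel

theorem cover_ok3_1 : coverOK 3901 ly3 lp3 roots3 1000 1000 = true := by decide +kernel

theorem cover_ok3_2 : coverOK 3901 ly3 lp3 roots3 2000 1000 = true := by decide +kernel

theorem cover_ok3_3 : coverOK 3901 ly3 lp3 roots3 3000 906 = true := by decide +kernel

end CfsgLib.Ly33
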