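import Cfsg.Agent.LyIndex33.Check

/-!
Kernel checks of the links at node 5.
-/

set_option autoImplicit false
set_option maxRecDepth 100000

namespace CfsgLib.Ly33

theorem links_ok5_0 : linkRange 5 3896 ly5 lq5 lf5 lp5 roots5 0 1000 = true := by decide +kernel

theorem links_ok5_1 : linkRange 5 3896 ly5 lq5 lf5 lp5 roots5 1000 1000 = true := by decide +kernel

theorem links_ok5_2 : linkRange 5 3896 ly5 lq5 lf5 lp5 roots5 2000 1000 = true := by decide +kernel

theorem links_ok5_3 : linkRange 5 3896 ly5 lq5 lf5 lp5 roots5 3000 896 = true := by decide +kernel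

theorem cover_ok5_0 : coverOK 3896 ly5 lp5 roots5 0 1000 = true := by decide +kernel

theorem cover_ok5_1 : coverOK 3896 ly5 lp5 roots5 1000 1000 = true := by decide +kernel

theorem cover_ok5_2 : coverOK 3896 ly5 lp5 roots5 2000 1000 = true := by decide +kernel

theorem cover_ok5_3 : coverOK 3896 ly5 lp5 roots5 3000 906 = true := by decide +kernel

end CfsgLib.Ly33
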