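import Cfsg.Agent.LyIndex33.CosetDefs

/-!
Kernel checks of the parabolic decomposition (transversal).
-/

set_option autoImplicit false
set_option maxRecDepth 100000

namespace CfsgLib.Ly33

theorem trans_ok0 : transRange 0 1000 = true := by decide +kernel

theorem trans_ok1 : transRange 1000 1000 = true := by decide +kernel

theorem trans_ok2 : transRange 2000 1000 = true := by decide +kernel

theorem trans_ok3 : transRange 3000 906 = true := by decide +kernel

end CfsgLib.Ly33
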