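import Cfsg.Agent.LyIndex33.CosetDefs

/-!
Kernel checks of the parabolic decomposition.
-/

set_option autoImplicit false
set_option maxRecDepth 100000

namespace CfsgLib.Ly33

theorem seeds_ok : seedsOK = true := by decide +kernel

theorem tables_ok : tablesOK = true := by decide +kernel

theorem levi_ok : leviOK 96 = true := by decide +kernel

theorem unip_ok0 : unipRange 0 5 = true := by decide +kernel

theorem unip_ok1 : unipRange 5 5 = true := by decide +kernel

theorem unip_ok2 : unipRange 10 5 = true := by decide +kernel

theorem unip_ok3 : unipRange 15 5 = true := by decide +kernel

theorem unip_ok4 : unipRange 20 5 = true := by decide +kernel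

theorem five_ok : fiveOK = true := by decide +kernel

end CfsgLib.Ly33
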