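import Cfsg.Agent.LyIndex33.Main

/-!
Consequences: a group generated by an image of the matrix group and such an element is small.
-/

set_option autoImplicit false

namespace CfsgLib.Ly33

open CfsgLib.DCert22

theorem sup_top {E : Type*} [Group E] (φ : Hg →* E) (t : E)
    (h : Subgroup.closure ((φ.range : Set E) ∪ {t}) = ⊤) :
    φ.range ⊔ Subgroup.closure {t} = ⊤ := by
  rwa [Subgroup.closure_union, Subgroup.closure_eq] at h

/-- the order bound for any group generated by such data -/
theorem card_le (E : Type*) [Group E] (φ : Hg →* E) (t : E)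
    (hz : LyCover50.ZRels (φ hA) (φ hB) (φ hC) (φ hD) t)
    (hgen : Subgroup.closure ((φ.range : Set E) ∪ {t}) = ⊤) :
    Finite E ∧ Nat.card E ≤ 8835156 * 5859000000 := by
  let S : Setup φ.range := ⟨φ, t, hz, le_rfl⟩
  obtain ⟨hfi, hi⟩ := S.index_le (sup_top φ t hgen)
  have hr : Nat.card φ.range ≤ 5859000000 :=
    (Nat.card_le_card_of_surjective φ.rangeRestrict φ.rangeRestrict_surjective).trans card_Hg_le
  have hc : φ.range.index * Nat.card φ.range = Nat.card E := φ.range.index_mul_card
  have : Finite φ.range := Finite.of_surjective φ.rangeRestrict φ.rangeRestrict_surjective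
  haveI : Finite E := Nat.finite_of_card_ne_zero (by
    rw [← hc]; exact Nat.mul_ne_zero hfi.index_ne_zero Nat.card_pos.ne')
  exact ⟨this, hc ▸ Nat.mul_le_mul hi hr⟩

namespace Setup

variable {E : Type*} [Group E] {L : Subgroup E} (S : Setup L)

/-- with exact index every lower bound is attained -/
theorem stab_card_eq (hgen : S.φ.range ⊔ Subgroup.closure {S.t} = ⊤) (hex : L.index = 8835156)
    {a : ℕ} (ha : a ∈ live) : Nat.card (stab S.model L cert a) = kLow a := by
  let k' := fun b => Nat.card (stab S.model L cert b)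
  have h1 := (index_le_of_covered S.model (S.covered hgen)
    (kLow := k') fun b _ => ⟨le_rfl, Nat.card_pos⟩).2
  have hH := card_Hg_le
  simp only [live, List.map_cons, List.map_nil, List.sum_cons, List.sum_nil, hex, k'] at h1
  have b1 := (S.hlow 1 (by decide)).1
  have b3 := (S.hlow 3 (by decide)).1
  have b4 := (S.hlow 4 (by decide)).1
  have b5 := (S.hlow 5 (by decide)).1
  rw [S.stab_zero, Subgroup.card_top, Nat.div_self Nat.card_pos] at h1
  simp only [kLow] at b1 b3 b4 b5
  have le1 := Nat.div_le_div_left b1 (by norm_num) (a := Nat.card Hg)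
  have le3 := Nat.div_le_div_left b3 (by norm_num) (a := Nat.card Hg)
  have le4 := Nat.div_le_div_left b4 (by norm_num) (a := Nat.card Hg)
  have le5 := Nat.div_le_div_left b5 (by norm_num) (a := Nat.card Hg)
  have hdvd : ∀ b, Nat.card (stab S.model L cert b) ∣ Nat.card Hg := fun b =>
    Subgroup.card_subgroup_dvd_card _
  have hcard : Nat.card Hg = 5859000000 := by omega
  simp only [live, List.mem_cons, List.not_mem_nil, or_false] at ha
  have key : ∀ b m, m ∣ 5859000000 → m ≤ Nat.card (stab S.model L cert b) →
      Nat.card Hg / Nat.card (stab S.model L cert b) = 5859000000 / m →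
      Nat.card (stab S.model L cert b) = m := fun b m hm _ he => by
    have h2 := Nat.div_mul_cancel (hdvd b)
    rw [he, hcard] at h2
    have h3 := Nat.div_mul_cancel hm
    have hpos : 0 < 5859000000 / m := Nat.pos_of_ne_zero fun e => by simp [e] at h3
    exact Nat.eq_of_mul_eq_mul_left hpos (h2.trans h3.symm)
  rcases ha with rfl | rfl | rfl | rfl | rfl
  · simp [S.stab_zero, kLow]
  · exact key 1 _ (by decide) b1 (by simp only [kLow]; rw [hcard] at h1 le1 le3 le4 le5 ⊢; omega)
  · exact key 3 _ (by decide) b3 (by simp only [kLow]; rw [hcard] at h1 le1 le3 le4 le5 ⊢; omega)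
  · exact key 4 _ (by decide) b4 (by simp only [kLow]; rw [hcard] at h1 le1 le3 le4 le5 ⊢; omega)
  · exact key 5 _ (by decide) b5 (by simp only [kLow]; rw [hcard] at h1 le1 le3 le4 le5 ⊢; omega)

end Setup

end CfsgLib.Ly33
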