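import Cfsg.Agent.LyIndex33.Coset
import Mathlib.Algebra.Group.Submonoid.Operations
import Mathlib.SetTheory.Cardinal.Finite
import Mathlib.Tactic.Group

/-!
Every element of the matrix group is a product over the two transversals; hence the order bound.
-/

set_option autoImplicit false
set_option maxRecDepth 100000

namespace CfsgLib.Ly33

attribute [local irreducible] mulP invP cparts glIx el xEl yEl zEl lwEl xIm yIm zIm lwIm sEl sIm blIx levIx trq tqIx tiIx r5Ix r5IIx exj exk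

/-- valid parts -/
def Parts (p : ℕ × ℕ × ℕ × ℕ) : Prop := p.1 < 25 ∧ p.2.1 < 25 ∧ p.2.2.1 < 5 ∧ p.2.2.2 < 96

theorem inC_spec {c : ℕ} (h : inC c = true) : Parts (cparts c) ∧ c = pEl (cparts c) := by
  simp only [inC, Bool.and_eq_true, Nat.blt, Nat.ble_eq] at h
  obtain ⟨h1, h2, h3, h4, h5⟩ := h
  exact ⟨⟨h1, h2, h3, h4⟩, Nat.eq_of_beq_eq_true h5⟩

section
variable (R : ℕ → ℕ → Prop) (h1 : R oneP oneP) (hs : ∀ k < 8, R (sEl k) (sIm k))
  (hm : ∀ {a b c d}, R a b → R c d → R (mulP a c) (mulP b d))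
include h1 hs hm

theorem rel_pow {k : ℕ} (hk : k < 8) : ∀ i, R (powP (sEl k) i) (powP (sIm k) i)
  | 0 => h1
  | i + 1 => hm (rel_pow hk i) (hs k hk)

theorem rel_levi : ∀ L < 96, R (lwEl L) (lwIm L) := by
  intro L
  induction L using Nat.strong_induction_on with
  | _ L ih =>
    intro hL
    have h := allLt_spec levi_ok L hL
    simp only [Bool.and_eq_true] at h
    obtain ⟨h, -⟩ := h
    by_cases h0 : L = 0
    · subst h0
      simp only [show Nat.beq 0 0 = true from rfl, cond_true, Bool.and_eq_true] at h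
      rw [Nat.eq_of_beq_eq_true h.1, Nat.eq_of_beq_eq_true h.2]
      exact h1
    · simp only [nbeq h0, cond_false, Bool.and_eq_true, Nat.blt, Nat.ble_eq] at h
      obtain ⟨a, b, c, d⟩ := h
      rw [Nat.eq_of_beq_eq_true c, Nat.eq_of_beq_eq_true d]
      exact hm (ih _ a (lt_trans a hL)) (hs _ b)

theorem rel_parts {p : ℕ × ℕ × ℕ × ℕ} (hp : Parts p) : R (pEl p) (pIm p) := by
  obtain ⟨i, j, m, L⟩ := p
  obtain ⟨hi, hj, hm', hL⟩ := hp
  have ht := tables_ok
  simp only [tablesOK, Bool.and_eq_true] at ht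
  have hx : ∀ a < 5, ∀ b < 5, (xEl (5 * a + b) = mulP (powP (sEl 0) a) (powP (sEl 1) b) ∧
      xIm (5 * a + b) = mulP (powP (sIm 0) a) (powP (sIm 1) b)) ∧
      (yEl (5 * a + b) = mulP (powP (sEl 2) a) (powP (sEl 3) b) ∧
      yIm (5 * a + b) = mulP (powP (sIm 2) a) (powP (sIm 3) b)) := by
    intro a ha b hb
    have h2 := allLt_spec ht.1 a ha
    simp only [Bool.and_eq_true] at h2
    have h3 := allLt_spec h2.1 b hb
    simp only [Bool.and_eq_true] at h3
    exact ⟨⟨Nat.eq_of_beq_eq_true h3.1.1, Nat.eq_of_beq_eq_true h3.1.2⟩,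
      ⟨Nat.eq_of_beq_eq_true h3.2.1, Nat.eq_of_beq_eq_true h3.2.2⟩⟩
  have hz : zEl m = powP (sEl 4) m ∧ zIm m = powP (sIm 4) m := by
    have h2 := allLt_spec ht.1 m hm'
    simp only [Bool.and_eq_true] at h2
    exact ⟨Nat.eq_of_beq_eq_true h2.2.1, Nat.eq_of_beq_eq_true h2.2.2⟩
  obtain ⟨⟨x1, x2⟩, -⟩ := hx (i / 5) (by simp only at hi; omega) (i % 5) (by omega)
  obtain ⟨-, ⟨y1, y2⟩⟩ := hx (j / 5) (by simp only at hj; omega) (j % 5) (by omega)
  rw [Nat.div_add_mod i 5] at x1 x2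
  rw [Nat.div_add_mod j 5] at y1 y2
  simp only [pEl, pIm, x1, x2, y1, y2, hz.1, hz.2]
  exact hm (hm (hm (hm (rel_pow R h1 hs hm (by norm_num) _) (rel_pow R h1 hs hm (by norm_num) _))
    (hm (rel_pow R h1 hs hm (by norm_num) _) (rel_pow R h1 hs hm (by norm_num) _)))
    (rel_pow R h1 hs hm (by norm_num) _)) (rel_levi R h1 hs hm L hL)

end

theorem seed_mem {k : ℕ} (hk : k < 8) : InP (sEl k) ∧ InH (sIm k) := by
  have h := allLt_spec seeds_ok k hk
  simp only [Bool.and_eq_true, Nat.blt, Nat.ble_eq] at h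
  obtain ⟨a, b, c, d⟩ := h
  rw [Nat.eq_of_beq_eq_true c, Nat.eq_of_beq_eq_true d]
  exact ⟨(el_ok _ (lt_trans a (by norm_num))).2 a, (el_ok _ b).1⟩

theorem parts_mem {p : ℕ × ℕ × ℕ × ℕ} (hp : Parts p) : InP (pEl p) ∧ InH (pIm p) :=
  rel_parts (fun a b => InP a ∧ InH b) ⟨⟨1, enc_one, one_mem _⟩, ⟨1, enc_one⟩⟩
    (fun _ hk => seed_mem hk) (fun h h' => ⟨h.1.mul h'.1, h.2.mul h'.2⟩) hp

/-- the group element of valid parts -/
noncomputable def cEl (p : ℕ × ℕ × ℕ × ℕ) (hp : Parts p) : Hg := (parts_mem hp).1.choose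

theorem cEl_spec (p : ℕ × ℕ × ℕ × ℕ) (hp : Parts p) : enc (cEl p hp) = pEl p ∧ (cEl p hp).1 ∈ Pg :=
  (parts_mem hp).1.choose_spec

/-- products of valid parts -/
def Cset : Set Hg := {x | ∃ p, Parts p ∧ enc x = pEl p}

theorem one_mem_Cset : (1 : Hg) ∈ Cset := by
  have ht := tables_ok
  simp only [tablesOK, Bool.and_eq_true] at ht
  exact ⟨(0, 0, 0, 0), ⟨by norm_num, by norm_num, by norm_num, by norm_num⟩,
    enc_one.trans (Nat.eq_of_beq_eq_true ht.2).symm⟩

theorem mem_Cset_of_inC {x : Hg} (h : inC (enc x) = true) : x ∈ Cset :=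
  ⟨_, (inC_spec h).1, (inC_spec h).2⟩

theorem unip_all (i : ℕ) (hi : i < 25) : ∀ j < 25, ∀ m < 5, ∀ g < 5,
    inC (mulP (mulP (mulP (xEl i) (yEl j)) (zEl m)) (sEl g)) = true ∧
    (cparts (mulP (mulP (mulP (xEl i) (yEl j)) (zEl m)) (sEl g))).2.2.2 = 0 := by
  have key : ∀ s k : ℕ, unipRange s k = true → ∀ i, s ≤ i → i < s + k → ∀ j < 25, ∀ m < 5, ∀ g < 5,
      inC (mulP (mulP (mulP (xEl i) (yEl j)) (zEl m)) (sEl g)) = true ∧
      (cparts (mulP (mulP (mulP (xEl i) (yEl j)) (zEl m)) (sEl g))).2.2.2 = 0 := by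
    intro s k
    induction k with
    | zero => intro _ i h1 h2; omega
    | succ k ih =>
      intro h i h1 h2 j hj m hm g hg
      simp only [unipRange, Bool.and_eq_true] at h
      rcases Nat.lt_or_ge i (s + k) with h3 | h3
      · exact ih h.1 i h1 h3 j hj m hm g hg
      · obtain rfl : i = s + k := by omega
        have := allLt_spec (allLt_spec (allLt_spec h.2 j hj) m hm) g hg
        simp only [Bool.and_eq_true] at this
        exact ⟨this.1, Nat.eq_of_beq_eq_true this.2⟩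
  rcases Nat.lt_or_ge i 5 with h | h
  · exact key 0 5 unip_ok0 i (by omega) h
  rcases Nat.lt_or_ge i 10 with h' | h'
  · exact key 5 5 unip_ok1 i h h'
  rcases Nat.lt_or_ge i 15 with h1 | h1
  · exact key 10 5 unip_ok2 i h' h1
  rcases Nat.lt_or_ge i 20 with h2 | h2
  · exact key 15 5 unip_ok3 i h1 h2
  · exact key 20 5 unip_ok4 i h2 (by omega)

/-- the unipotent parts -/
def Uset : Set Hg :=
  {x | ∃ i j m, i < 25 ∧ j < 25 ∧ m < 5 ∧ enc x = mulP (mulP (xEl i) (yEl j)) (zEl m)}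

theorem levi_zero : lwEl 0 = oneP := by
  have h := allLt_spec levi_ok 0 (by norm_num)
  simp only [show Nat.beq 0 0 = true from rfl, cond_true, Bool.and_eq_true] at h
  exact Nat.eq_of_beq_eq_true h.1.1

theorem mulP_one {a : ℕ} (h : InH a) : mulP a oneP = a := by
  obtain ⟨x, rfl⟩ := h
  rw [← enc_one, ← enc_mul, mul_one]

theorem one_mulP {a : ℕ} (h : InH a) : mulP oneP a = a := by
  obtain ⟨x, rfl⟩ := h
  rw [← enc_one, ← enc_mul, one_mul]

theorem levi_mem {L : ℕ} (hL : L < 96) : InP (lwEl L) :=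
  rel_levi (fun a _ => InP a) ⟨1, enc_one, one_mem _⟩ (fun _ hk => (seed_mem hk).1)
    (fun h h' => h.mul h') L hL

theorem xyz_mem {i j m : ℕ} (hi : i < 25) (hj : j < 25) (hm : m < 5) :
    InH (mulP (mulP (xEl i) (yEl j)) (zEl m)) := by
  have ht := tables_ok
  simp only [tablesOK, Bool.and_eq_true] at ht
  have hp : ∀ {k}, k < 8 → ∀ n, InH (powP (sEl k) n) := fun {k} hk n =>
    rel_pow (fun a _ => InH a) ⟨1, enc_one⟩ (fun _ hk => (seed_mem hk).1.inH)
      (fun h h' => h.mul h') hk n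
  have h2 : ∀ a < 5, ∀ b < 5, InH (xEl (5 * a + b)) ∧ InH (yEl (5 * a + b)) := by
    intro a ha b hb
    have h3 := allLt_spec ht.1 a ha
    simp only [Bool.and_eq_true] at h3
    have h4 := allLt_spec h3.1 b hb
    simp only [Bool.and_eq_true] at h4
    rw [Nat.eq_of_beq_eq_true h4.1.1, Nat.eq_of_beq_eq_true h4.2.1]
    exact ⟨(hp (by norm_num) _).mul (hp (by norm_num) _), (hp (by norm_num) _).mul (hp (by norm_num) _)⟩
  have hz' : InH (zEl m) := by
    have h3 := allLt_spec ht.1 m hm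
    simp only [Bool.and_eq_true] at h3
    rw [Nat.eq_of_beq_eq_true h3.2.1]
    exact hp (by norm_num) m
  have hx' : InH (xEl i) := by
    rw [← Nat.div_add_mod i 5]; exact (h2 _ (by omega) _ (by omega)).1
  have hy' : InH (yEl j) := by
    rw [← Nat.div_add_mod j 5]; exact (h2 _ (by omega) _ (by omega)).2
  exact (hx'.mul hy').mul hz'

theorem uset_mul {x s : Hg} {g : ℕ} (hx : x ∈ Uset) (hg : g < 5) (hs : enc s = sEl g) :
    x * s ∈ Uset := by
  obtain ⟨i, j, m, hi, hj, hm, e⟩ := hx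
  obtain ⟨hc, hL⟩ := unip_all i hi j hj m hm g hg
  obtain ⟨⟨a, b, c, d⟩, hval⟩ := inC_spec hc
  refine ⟨_, _, _, a, b, c, ?_⟩
  rw [enc_mul, e, hs]
  conv_lhs => rw [hval, pEl, hL, levi_zero]
  exact mulP_one (xyz_mem a b c)

theorem uset_closure {x u : Hg} (hx : x ∈ Uset)
    (hu : u ∈ Submonoid.closure {s : Hg | ∃ g < 5, enc s = sEl g}) : x * u ∈ Uset := by
  induction hu using Submonoid.closure_induction generalizing x with
  | mem s hs => obtain ⟨g, hg, e⟩ := hs; exact uset_mul hx hg e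
  | one => rwa [mul_one]
  | mul a b _ _ ha hb => rw [← mul_assoc]; exact hb (ha hx)

theorem xyz_closure {u : Hg} {i j m : ℕ} (hi : i < 25) (hj : j < 25) (hm : m < 5)
    (e : enc u = mulP (mulP (xEl i) (yEl j)) (zEl m)) :
    u ∈ Submonoid.closure {s : Hg | ∃ g < 5, enc s = sEl g} := by
  let M := Submonoid.closure {s : Hg | ∃ g < 5, enc s = sEl g}
  let R : ℕ → Prop := fun a => ∃ x ∈ M, enc x = a
  have hm' : ∀ {a b}, R a → R b → R (mulP a b) := by
    rintro _ _ ⟨x, hx, rfl⟩ ⟨y, hy, rfl⟩; exact ⟨x * y, M.mul_mem hx hy, enc_mul x y⟩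
  have hp : ∀ {k}, k < 5 → ∀ n, R (powP (sEl k) n) := by
    intro k hk n
    obtain ⟨s, hs, -⟩ := (seed_mem (show k < 8 by omega)).1
    induction n with
    | zero => exact ⟨1, M.one_mem, enc_one⟩
    | succ n ih => exact hm' ih ⟨s, Submonoid.subset_closure ⟨k, hk, hs⟩, hs⟩
  have ht := tables_ok
  simp only [tablesOK, Bool.and_eq_true] at ht
  have h3 := allLt_spec ht.1 m hm
  have h3i := allLt_spec ht.1 (i / 5) (by omega)
  have h3j := allLt_spec ht.1 (j / 5) (by omega)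
  simp only [Bool.and_eq_true] at h3 h3i h3j
  have h4i := allLt_spec h3i.1 (i % 5) (by omega)
  have h4j := allLt_spec h3j.1 (j % 5) (by omega)
  simp only [Bool.and_eq_true, Nat.div_add_mod] at h4i h4j
  rw [Nat.eq_of_beq_eq_true h4i.1.1, Nat.eq_of_beq_eq_true h4j.2.1, Nat.eq_of_beq_eq_true h3.2.1] at e
  obtain ⟨x, hx, hxe⟩ : R (enc u) := by
    rw [e]
    exact hm' (hm' (hm' (hp (by norm_num) _) (hp (by norm_num) _))
      (hm' (hp (by norm_num) _) (hp (by norm_num) _))) (hp (by norm_num) _)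
  rwa [← enc_inj hxe]

theorem cset_split {x : Hg} (hx : x ∈ Cset) : ∃ u l : Hg, u ∈ Uset ∧
    ∃ L < 96, enc l = lwEl L ∧ x = u * l := by
  obtain ⟨p, hp, e⟩ := hx
  obtain ⟨u, hu⟩ := xyz_mem hp.1 hp.2.1 hp.2.2.1
  obtain ⟨l, hl, -⟩ := levi_mem hp.2.2.2
  refine ⟨u, l, ⟨_, _, _, hp.1, hp.2.1, hp.2.2.1, hu⟩, _, hp.2.2.2, hl, enc_inj ?_⟩
  rw [enc_mul, hu, hl, e, pEl]

theorem cset_mul {x s : Hg} {k : ℕ} (hx : x ∈ Cset) (hk : k < 8) (hs : enc s = sEl k) :
    x * s ∈ Cset := by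
  obtain ⟨u, l, hu, L, hL, hl, rfl⟩ := cset_split hx
  have h := allLt_spec levi_ok L hL
  simp only [Bool.and_eq_true] at h
  have h1 : l * s ∈ Cset := mem_Cset_of_inC (by rw [enc_mul, hl, hs]; exact allLt_spec h.2.1 k hk)
  obtain ⟨v, l', ⟨i, j, m, hi, hj, hm, hv⟩, L', hL', hl', e⟩ := cset_split h1
  obtain ⟨i', j', m', hi', hj', hm', huv⟩ := uset_closure hu (xyz_closure hi hj hm hv)
  refine ⟨(i', j', m', L'), ⟨hi', hj', hm', hL'⟩, ?_⟩
  rw [mul_assoc, e, ← mul_assoc, enc_mul, huv, hl']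
  rfl

theorem cset_mul_cset {x y : Hg} (hx : x ∈ Cset) (hy : y ∈ Cset) : x * y ∈ Cset := by
  obtain ⟨p, hp, e⟩ := hy
  let R : ℕ → ℕ → Prop := fun a _ => ∃ z : Hg, enc z = a ∧ ∀ w ∈ Cset, w * z ∈ Cset
  obtain ⟨z, hz, hmul⟩ := rel_parts R ⟨1, enc_one, fun w hw => by rwa [mul_one]⟩
    (fun k hk => by obtain ⟨s, hs, -⟩ := (seed_mem hk).1; exact ⟨s, hs, fun w hw => cset_mul hw hk hs⟩)
    (by
      rintro _ _ _ _ ⟨a, rfl, ha⟩ ⟨b, rfl, hb⟩
      exact ⟨a * b, enc_mul a b, fun w hw => by rw [← mul_assoc]; exact hb _ (ha _ hw)⟩) hp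
  rw [enc_inj (e.trans hz.symm)]
  exact hmul x hx

/-- a coset representative as an element -/
noncomputable def r5H (i : ℕ) : Hg :=
  if h : r5Ix i < 165 then ((el_ok _ (lt_trans h (by norm_num))).2 h).choose else 1

theorem five_spec {i : ℕ} (hi : i < 5) : r5Ix i < 165 ∧ r5IIx i < 165 ∧ mulP (r5I i) (r5 i) = oneP ∧
    inPar (mulP (r5 i) gA) = true ∧ inPar (mulP (r5 i) gB) = true ∧ inPar (mulP (r5 i) gC) = true := by
  have h := five_ok
  simp only [fiveOK, Bool.and_eq_true] at h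
  have h2 := allLt_spec h.1 i hi
  simp only [Bool.and_eq_true, Nat.blt, Nat.ble_eq] at h2
  obtain ⟨a, b, c, d, e, f⟩ := h2
  exact ⟨a, b, Nat.eq_of_beq_eq_true c, d, e, f⟩

theorem r5H_spec {i : ℕ} (hi : i < 5) : enc (r5H i) = r5 i ∧ (r5H i).1 ∈ Pg ∧
    enc (r5H i)⁻¹ = r5I i := by
  obtain ⟨a, b, c, -⟩ := five_spec hi
  have h1 : enc (r5H i) = r5 i ∧ (r5H i).1 ∈ Pg := by
    rw [r5H, dif_pos a]
    exact ((el_ok _ (lt_trans a (by norm_num))).2 a).choose_spec
  refine ⟨h1.1, h1.2, ?_⟩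
  obtain ⟨y, hy⟩ := (el_ok _ (lt_trans b (by norm_num : 165 < 10489))).1
  have hy' : enc y = r5I i := hy
  have : y * r5H i = 1 := enc_inj (by rw [enc_mul, hy', h1.1, c, enc_one])
  rw [← eq_inv_of_mul_eq_one_left this, hy']

/-- cosets of the small piece in the parabolic subgroup -/
def Pset : Set Hg := {x | ∃ c ∈ Cset, ∃ i < 5, x = c * r5H i}

theorem inPar_spec {x : Hg} (h : inPar (enc x) = true) : x ∈ Pset := by
  simp only [inPar, Bool.and_eq_true, Nat.blt, Nat.ble_eq] at h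
  obtain ⟨hi, hc⟩ := h
  obtain ⟨h1, -, h3⟩ := r5H_spec hi
  exact ⟨x * (r5H _)⁻¹, mem_Cset_of_inC (by rw [enc_mul, h3]; exact hc), _, hi, by group⟩

theorem pset_eq {x : Hg} : x ∈ Pset ↔ x.1 ∈ Pg := by
  constructor
  · rintro ⟨c, ⟨p, hp, e⟩, i, hi, rfl⟩
    obtain ⟨h1, h2⟩ := cEl_spec p hp
    rw [enc_inj (e.trans h1.symm)]
    exact Pg.mul_mem h2 (r5H_spec hi).2.1
  · intro hx
    have key : ∀ y : Matˣ, y ∈ Submonoid.closure ({uA, uB, uC} : Set Matˣ) →
        ∀ (hy : y ∈ Hg) w, w ∈ Pset → w * ⟨y, hy⟩ ∈ Pset := by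
      intro y hy
      induction hy using Submonoid.closure_induction with
      | mem g hg =>
        rintro hy w ⟨c, hc, i, hi, rfl⟩
        obtain ⟨-, -, -, d, e, f⟩ := five_spec hi
        have : inPar (enc (r5H i * ⟨g, hy⟩)) = true := by
          rw [enc_mul, (r5H_spec hi).1]
          simp only [Set.mem_insert_iff, Set.mem_singleton_iff] at hg
          rcases hg with rfl | rfl | rfl
          · rw [show enc ⟨uA, hy⟩ = gA from enc_A]; exact d
          · rw [show enc ⟨uB, hy⟩ = gB from enc_B]; exact e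
          · rw [show enc ⟨uC, hy⟩ = gC from enc_C]; exact f
        obtain ⟨c', hc', j, hj, hh⟩ := inPar_spec this
        exact ⟨c * c', cset_mul_cset hc hc', j, hj, by rw [mul_assoc, hh, mul_assoc]⟩
      | one => intro hy w hw; rwa [show (⟨1, hy⟩ : Hg) = 1 from rfl, mul_one]
      | mul a b ha hb iha ihb =>
        intro hy w hw
        have hsub : ∀ z ∈ Submonoid.closure ({uA, uB, uC} : Set Matˣ), z ∈ Hg := fun z hz =>
          Pg_le (Submonoid.closure_le.2 Subgroup.subset_closure hz)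
        rw [show (⟨a * b, hy⟩ : Hg) = ⟨a, hsub a ha⟩ * ⟨b, hsub b hb⟩ from rfl, ← mul_assoc]
        exact ihb _ _ (iha _ w hw)
    have hm : x.1 ∈ Submonoid.closure ({uA, uB, uC} : Set Matˣ) := by
      rw [← Subgroup.closure_toSubmonoid_of_finite]; exact hx
    have h1 : (1 : Hg) ∈ Pset := by
      refine ⟨1, one_mem_Cset, 0, by norm_num, ?_⟩
      have h := five_ok
      simp only [fiveOK, Bool.and_eq_true] at h
      rw [one_mul]
      exact enc_inj (by rw [enc_one, (r5H_spec (by norm_num : 0 < 5)).1, Nat.eq_of_beq_eq_true h.2.1])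
    have := key _ hm x.2 1 h1
    rwa [one_mul] at this

theorem trans_all (q : ℕ) (hq : q < 3906) : transRange q 1 = true := by
  have key : ∀ s k : ℕ, transRange s k = true → ∀ q, s ≤ q → q < s + k → transRange q 1 = true := by
    intro s k
    induction k with
    | zero => intro _ q h1 h2; omega
    | succ k ih =>
      intro h q h1 h2
      rw [transRange, Bool.and_eq_true] at h
      rcases Nat.lt_or_ge q (s + k) with h3 | h3
      · exact ih h.1 q h1 h3
      · obtain rfl : q = s + k := by omega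
        rw [transRange, transRange, Bool.true_and]
        exact h.2
  rcases Nat.lt_or_ge q 1000 with h | h
  · exact key 0 1000 trans_ok0 q (by omega) h
  rcases Nat.lt_or_ge q 2000 with h' | h'
  · exact key 1000 1000 trans_ok1 q h h'
  rcases Nat.lt_or_ge q 3000 with h1 | h1
  · exact key 2000 1000 trans_ok2 q h' h1
  · exact key 3000 906 trans_ok3 q h1 (by omega)

/-- a transversal element -/
noncomputable def tqH (q : ℕ) : Hg :=
  if h : tqIx q < 10489 then (el_ok _ h).1.choose else 1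

theorem tqH_spec {q : ℕ} (hq : q < 3906) : enc (tqH q) = tq q ∧ enc (tqH q)⁻¹ = ti q ∧
    (∀ g < 4, trq (4 * q + g) < 3906) ∧
    inPar (mulP (mulP (tq q) gA) (ti (trq (4 * q)))) = true ∧
    inPar (mulP (mulP (tq q) gB) (ti (trq (4 * q + 1)))) = true ∧
    inPar (mulP (mulP (tq q) gC) (ti (trq (4 * q + 2)))) = true ∧
    inPar (mulP (mulP (tq q) gD) (ti (trq (4 * q + 3)))) = true := by
  have h := trans_all q hq
  simp only [transRange, Bool.true_and, Bool.and_eq_true, Nat.blt, Nat.ble_eq, Nat.add_zero] at h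
  obtain ⟨a, b, c, d, e, f, g, i⟩ := h
  have h1 : enc (tqH q) = tq q := by rw [tqH, dif_pos (show tqIx q < 10489 from a)]; exact (el_ok _ a).1.choose_spec
  refine ⟨h1, ?_, fun k hk => by simpa [Nat.blt, Nat.ble_eq] using allLt_spec d k hk, e, f, g, i⟩
  obtain ⟨y, hy⟩ := (el_ok _ b).1
  have hy' : enc y = ti q := hy
  have : y * tqH q = 1 := enc_inj (by rw [enc_mul, hy', h1, Nat.eq_of_beq_eq_true c, enc_one])
  rw [← eq_inv_of_mul_eq_one_left this, hy']

/-- every element is a product -/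
theorem decomp (x : Hg) : ∃ c ∈ Cset, ∃ i < 5, ∃ q < 3906, x = c * r5H i * tqH q := by
  suffices h : ∃ s : Hg, s.1 ∈ Pg ∧ ∃ q < 3906, x = s * tqH q by
    obtain ⟨s, hs, q, hq, rfl⟩ := h
    obtain ⟨c, hc, i, hi, rfl⟩ := pset_eq.2 hs
    exact ⟨c, hc, i, hi, q, hq, rfl⟩
  have key : ∀ y : Matˣ, y ∈ Submonoid.closure ({uA, uB, uC, uD} : Set Matˣ) →
      ∀ (hy : y ∈ Hg) (w : Hg), (∃ s : Hg, s.1 ∈ Pg ∧ ∃ q < 3906, w = s * tqH q) →
        ∃ s : Hg, s.1 ∈ Pg ∧ ∃ q < 3906, w * ⟨y, hy⟩ = s * tqH q := by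
    intro y hy
    induction hy using Submonoid.closure_induction with
    | mem g hg =>
      rintro hy w ⟨s, hs, q, hq, rfl⟩
      obtain ⟨h1, -, hlt, a, b, c, d⟩ := tqH_spec hq
      have step : ∀ (k : ℕ) (v : ℕ), k < 4 → enc ⟨g, hy⟩ = v →
          inPar (mulP (mulP (tq q) v) (ti (trq (4 * q + k)))) = true →
          ∃ s' : Hg, s'.1 ∈ Pg ∧ ∃ q' < 3906, s * tqH q * ⟨g, hy⟩ = s' * tqH q' := by
        intro k v hk hv hp
        obtain ⟨-, h2, -⟩ := tqH_spec (hlt k hk)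
        refine ⟨s * (tqH q * ⟨g, hy⟩ * (tqH (trq (4 * q + k)))⁻¹), Pg.mul_mem hs (pset_eq.1 (inPar_spec ?_)),
          _, hlt k hk, by group⟩
        rw [enc_mul, enc_mul, h1, hv, h2]
        exact hp
      simp only [Set.mem_insert_iff, Set.mem_singleton_iff] at hg
      rcases hg with rfl | rfl | rfl | rfl
      · exact step 0 gA (by norm_num) enc_A a
      · exact step 1 gB (by norm_num) enc_B b
      · exact step 2 gC (by norm_num) enc_C c
      · exact step 3 gD (by norm_num) enc_D d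
    | one => intro hy w hw; rwa [show (⟨1, hy⟩ : Hg) = 1 from rfl, mul_one]
    | mul a b ha hb iha ihb =>
      intro hy w hw
      have hsub : ∀ z ∈ Submonoid.closure ({uA, uB, uC, uD} : Set Matˣ), z ∈ Hg := fun z hz =>
        Submonoid.closure_le.2 Subgroup.subset_closure hz
      rw [show (⟨a * b, hy⟩ : Hg) = ⟨a, hsub a ha⟩ * ⟨b, hsub b hb⟩ from rfl, ← mul_assoc]
      exact ihb _ _ (iha _ w hw)
  have hm : x.1 ∈ Submonoid.closure ({uA, uB, uC, uD} : Set Matˣ) := by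
    rw [← Subgroup.closure_toSubmonoid_of_finite]; exact x.2
  have h1 : tqH 0 = 1 := by
    have h := five_ok
    simp only [fiveOK, Bool.and_eq_true] at h
    exact enc_inj (by rw [(tqH_spec (by norm_num : 0 < 3906)).1, Nat.eq_of_beq_eq_true h.2.2, enc_one])
  have := key _ hm x.2 1 ⟨1, one_mem _, 0, by norm_num, by rw [h1, mul_one]⟩
  rwa [one_mul] at this

/-- the domain of the parts -/
abbrev Dom : Type := (Fin 25 × Fin 25 × Fin 5 × Fin 96) × Fin 5 × Fin 3906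

/-- the element of the parts -/
noncomputable def ofDom (z : Dom) : Hg :=
  cEl (z.1.1.1, z.1.2.1.1, z.1.2.2.1.1, z.1.2.2.2.1)
      ⟨z.1.1.2, z.1.2.1.2, z.1.2.2.1.2, z.1.2.2.2.2⟩ * r5H z.2.1.1 * tqH z.2.2.1

theorem ofDom_surj : Function.Surjective ofDom := by
  intro x
  obtain ⟨c, ⟨⟨i', j', m', L'⟩, hp, e⟩, i, hi, q, hq, rfl⟩ := decomp x
  refine ⟨((⟨i', hp.1⟩, ⟨j', hp.2.1⟩, ⟨m', hp.2.2.1⟩, ⟨L', hp.2.2.2⟩), ⟨i, hi⟩, ⟨q, hq⟩), ?_⟩
  have h : cEl (i', j', m', L') hp = c := enc_inj ((cEl_spec _ hp).1.trans e.symm)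
  rw [← h]
  rfl

theorem card_dom : Nat.card Dom = 5859000000 := by
  rw [Nat.card_prod, Nat.card_prod, Nat.card_prod, Nat.card_prod, Nat.card_prod, Nat.card_fin,
    Nat.card_fin, Nat.card_fin, Nat.card_fin]

theorem card_Hg_le : Nat.card Hg ≤ 5859000000 :=
  card_dom ▸ Nat.card_le_card_of_surjective ofDom ofDom_surj

end CfsgLib.Ly33
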