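import Cfsg.Agent.LyIndex33.Data
import Mathlib.Algebra.Group.Subgroup.Finite
import Mathlib.Data.Matrix.Basic
import Mathlib.GroupTheory.OrderOfElement

/-!
The matrix group generated by the four seven by seven matrices and its element table.
-/

set_option autoImplicit false
set_option maxRecDepth 100000

namespace CfsgLib.Ly33

/-- the matrix of a code -/
def unp (n : ℕ) : Mat := Matrix.of fun i j => ((dg n (7 * i.1 + j.1) : ℕ) : ZMod 5)

theorem pack_one : pack (1 : Mat) = oneP := by decide +kernel

theorem unp_pack (M : Mat) : unp (pack M) = M := by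
  have hb : ∀ i, dig M i < 256 := fun i => lt_trans (dig_lt M i) (by norm_num)
  ext i j
  have h1 : dg (pack M) (7 * i.1 + j.1) = dig M (7 * i.1 + j.1) := by
    show (pack M >>> (8 * (7 * i.1 + j.1))) &&& 255 = _
    rw [Nat.shiftRight_eq_div_pow, pow_mul, show (2 : ℕ) ^ 8 = 256 from rfl, pack,
      pk_shift (fun k hk => dig_out M hk) hb]
    have h : 0 + (7 * i.1 + j.1) = 7 * i.1 + j.1 := zero_add _
    rw [show pk (fun k => dig M (k + (7 * i.1 + j.1))) 49 =
        dig M (0 + (7 * i.1 + j.1)) + 256 * pk (fun k => dig M (k + 1 + (7 * i.1 + j.1))) 48 from rfl,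
      show (255 : ℕ) = 2 ^ 8 - 1 from rfl, Nat.and_two_pow_sub_one_eq_mod, h]
    rw [show (2 : ℕ) ^ 8 = 256 from rfl, Nat.add_mul_mod_self_left, Nat.mod_eq_of_lt (hb _)]
  show ((dg (pack M) (7 * i.1 + j.1) : ℕ) : ZMod 5) = M i j
  rw [h1, dig_apply, ZMod.natCast_zmod_val]

/-- a unit from two codes -/
def mkUnit (a : ℕ) (h : mulP (pack (unp a)) (pack (unp (invP a))) = oneP)
    (h' : mulP (pack (unp (invP a))) (pack (unp a)) = oneP) : Matˣ where
  val := unp a
  inv := unp (invP a)
  val_inv := pack_inj (by rw [← mulP_pack, h, pack_one])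
  inv_val := pack_inj (by rw [← mulP_pack, h', pack_one])

/-- a -/
def uA : Matˣ := mkUnit gA (by decide +kernel) (by decide +kernel)
/-- b -/
def uB : Matˣ := mkUnit gB (by decide +kernel) (by decide +kernel)
/-- c -/
def uC : Matˣ := mkUnit gC (by decide +kernel) (by decide +kernel)
/-- d -/
def uD : Matˣ := mkUnit gD (by decide +kernel) (by decide +kernel)

/-- the group -/
def Hg : Subgroup Matˣ := Subgroup.closure {uA, uB, uC, uD}

/-- the parabolic subgroup -/
def Pg : Subgroup Matˣ := Subgroup.closure {uA, uB, uC}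

instance : Finite Matˣ := Finite.of_injective _ Units.val_injective

theorem Pg_le : Pg ≤ Hg := Subgroup.closure_mono (by intro x hx; simp only [Set.mem_insert_iff, Set.mem_singleton_iff] at hx ⊢; tauto)

/-- a in the group -/
def hA : Hg := ⟨uA, Subgroup.subset_closure (by simp)⟩
/-- b in the group -/
def hB : Hg := ⟨uB, Subgroup.subset_closure (by simp)⟩
/-- c in the group -/
def hC : Hg := ⟨uC, Subgroup.subset_closure (by simp)⟩
/-- d in the group -/
def hD : Hg := ⟨uD, Subgroup.subset_closure (by simp)⟩

/-- the code of a group element -/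
def enc (x : Hg) : ℕ := pack (x.1 : Mat)

theorem enc_inj : Function.Injective enc := fun _ _ h => Subtype.ext (Units.ext (pack_inj h))

theorem enc_one : enc 1 = oneP := pack_one

theorem enc_mul (x y : Hg) : enc (x * y) = mulP (enc x) (enc y) := (mulP_pack _ _).symm

theorem enc_A : enc hA = gA := by decide +kernel
theorem enc_B : enc hB = gB := by decide +kernel
theorem enc_C : enc hC = gC := by decide +kernel
theorem enc_D : enc hD = gD := by decide +kernel

/-- the form -/
def fM : Mat := unp pF
/-- its inverse -/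
def fMi : Mat := unp pFi

theorem pack_fM : pack fM = pF := by decide +kernel
theorem pack_fMi : pack fMi = pFi := by decide +kernel

theorem fM_mul : fM * fMi = 1 := pack_inj (by rw [← mulP_pack]; decide +kernel)

theorem form_gen (a : ℕ) (h : pack (unp a) = a) (h2 : mulP (mulP a pF) (transp a) = pF) :
    unp a * fM * (unp a).transpose = fM :=
  pack_inj (by rw [← mulP_pack, ← mulP_pack, ← transp_pack, h, pack_fM, h2])

theorem form_pres : ∀ x ∈ Hg, (x : Mat) * fM * (x : Mat).transpose = fM := by
  intro x hx
  induction hx using Subgroup.closure_induction with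
  | mem x hx =>
    simp only [Set.mem_insert_iff, Set.mem_singleton_iff] at hx
    rcases hx with rfl | rfl | rfl | rfl
    · exact form_gen gA (by decide +kernel) (by decide +kernel)
    · exact form_gen gB (by decide +kernel) (by decide +kernel)
    · exact form_gen gC (by decide +kernel) (by decide +kernel)
    · exact form_gen gD (by decide +kernel) (by decide +kernel)
  | one => simp
  | mul x y _ _ hx hy =>
    rw [Units.val_mul, Matrix.transpose_mul,
      show (x : Mat) * y * fM * ((y : Mat).transpose * (x : Mat).transpose) =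
        x * (y * fM * (y : Mat).transpose) * (x : Mat).transpose by simp only [mul_assoc], hy, hx]
  | inv x _ hx =>
    conv_lhs => rw [← hx]
    simp only [← mul_assoc, Units.inv_mul, one_mul]
    rw [mul_assoc, ← Matrix.transpose_mul, Units.inv_mul, Matrix.transpose_one, mul_one]

theorem enc_inv (x : Hg) : enc x⁻¹ = invP (enc x) := by
  have h : (x.1 : Mat) * (fM * (x.1 : Mat).transpose * fMi) = 1 := by
    rw [← mul_assoc, ← mul_assoc, form_pres _ x.2, fM_mul]
  have e : ((x.1⁻¹ : Matˣ) : Mat) = fM * (x.1 : Mat).transpose * fMi := Units.inv_eq_of_mul_eq_one_right h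
  show pack ((x.1⁻¹ : Matˣ) : Mat) = mulP (mulP pF (transp (pack (x.1 : Mat)))) pFi
  rw [e, ← mulP_pack, ← mulP_pack, ← transp_pack, pack_fM, pack_fMi]

/-- codes of the group -/
def InH (n : ℕ) : Prop := ∃ x, enc x = n

/-- codes of the parabolic subgroup -/
def InP (n : ℕ) : Prop := ∃ x : Hg, enc x = n ∧ x.1 ∈ Pg

theorem InP.inH {n : ℕ} (h : InP n) : InH n := let ⟨x, hx, _⟩ := h; ⟨x, hx⟩

theorem InH.mul {a b : ℕ} : InH a → InH b → InH (mulP a b) := by
  rintro ⟨x, rfl⟩ ⟨y, rfl⟩; exact ⟨x * y, enc_mul x y⟩

theorem InP.mul {a b : ℕ} : InP a → InP b → InP (mulP a b) := by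
  rintro ⟨x, rfl, hx⟩ ⟨y, rfl, hy⟩; exact ⟨x * y, enc_mul x y, Pg.mul_mem hx hy⟩

/-- one line of the table -/
def progOK (i : ℕ) : Bool :=
  bif Nat.beq i 0 then Nat.beq (el i) oneP else
  bif Nat.beq i 1 then Nat.beq (el i) gA else
  bif Nat.beq i 2 then Nat.beq (el i) gB else
  bif Nat.beq i 3 then Nat.beq (el i) gC else
  bif Nat.beq i 165 then Nat.beq (el i) gD else
  (Nat.blt (exj i) i && (Nat.blt (exk i) i && Nat.beq (el i) (mulP (el (exj i)) (el (exk i)))))

/-- lines in a range -/
def progRange (s : ℕ) : ℕ → Bool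
  | 0 => true
  | k + 1 => progRange s k && progOK (s + k)

theorem progRange_spec : ∀ {s k : ℕ}, progRange s k = true → ∀ i, s ≤ i → i < s + k → progOK i = true
  | s, 0, _, i, h1, h2 => absurd h2 (by omega)
  | s, k + 1, h, i, h1, h2 => by
    simp only [progRange, Bool.and_eq_true] at h
    rcases Nat.lt_or_ge i (s + k) with h3 | h3
    · exact progRange_spec h.1 i h1 h3
    · obtain rfl : i = s + k := by omega
      exact h.2

theorem prog0 : progRange 0 3000 = true := by decide +kernel

theorem prog1 : progRange 3000 3000 = true := by decide +kernel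

theorem prog2 : progRange 6000 3000 = true := by decide +kernel

theorem prog3 : progRange 9000 1489 = true := by decide +kernel

theorem prog_all (i : ℕ) (hi : i < 10489) : progOK i = true := by
  rcases Nat.lt_or_ge i 3000 with h | h0
  · exact progRange_spec prog0 i (by omega) (by omega)
  rcases Nat.lt_or_ge i 6000 with h | h1
  · exact progRange_spec prog1 i (by omega) (by omega)
  rcases Nat.lt_or_ge i 9000 with h | h2
  · exact progRange_spec prog2 i (by omega) (by omega)
  rcases Nat.lt_or_ge i 10489 with h | h3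
  · exact progRange_spec prog3 i (by omega) (by omega)
  omega

theorem nbeq {i j : ℕ} (h : i ≠ j) : Nat.beq i j = false :=
  Bool.eq_false_iff.2 fun e => h (Nat.eq_of_beq_eq_true e)

theorem el_ok : ∀ i < 10489, InH (el i) ∧ (i < 165 → InP (el i)) := by
  intro i
  induction i using Nat.strong_induction_on with
  | _ i ih =>
    intro hi
    have h := prog_all i hi
    have base : ∀ (g : Hg) (v : ℕ), enc g = v → g.1 ∈ Pg → Nat.beq (el i) v = true →
        InH (el i) ∧ (i < 165 → InP (el i)) := fun g v hg hP he =>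
      have e := hg.trans (Nat.eq_of_beq_eq_true he).symm
      ⟨⟨g, e⟩, fun _ => ⟨g, e, hP⟩⟩
    unfold progOK at h
    by_cases h0 : i = 0
    · subst h0; exact base 1 _ enc_one (one_mem _) h
    rw [show Nat.beq i 0 = false from nbeq h0, cond_false] at h
    by_cases h1 : i = 1
    · subst h1; exact base hA _ enc_A (Subgroup.subset_closure (by simp [hA])) h
    rw [show Nat.beq i 1 = false from nbeq h1, cond_false] at h
    by_cases h2 : i = 2
    · subst h2; exact base hB _ enc_B (Subgroup.subset_closure (by simp [hB])) h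
    rw [show Nat.beq i 2 = false from nbeq h2, cond_false] at h
    by_cases h3 : i = 3
    · subst h3; exact base hC _ enc_C (Subgroup.subset_closure (by simp [hC])) h
    rw [show Nat.beq i 3 = false from nbeq h3, cond_false] at h
    by_cases h4 : i = 165
    · subst h4
      exact ⟨⟨hD, enc_D.trans (Nat.eq_of_beq_eq_true h).symm⟩, fun hlt => absurd hlt (by norm_num)⟩
    rw [show Nat.beq i 165 = false from nbeq h4, cond_false] at h
    simp only [Bool.and_eq_true, Nat.blt, Nat.ble_eq] at h
    obtain ⟨hj, hk, he⟩ := h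
    have hj' := ih _ hj (Nat.lt_trans hj hi)
    have hk' := ih _ hk (Nat.lt_trans hk hi)
    rw [Nat.eq_of_beq_eq_true he]
    exact ⟨hj'.1.mul hk'.1, fun hlt => (hj'.2 (Nat.lt_trans hj hlt)).mul (hk'.2 (Nat.lt_trans hk hlt))⟩

end CfsgLib.Ly33
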