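import Cfsg.Agent.LyIndex33.Decomp
import Cfsg.Agent.LyIndex33.CheckFacts
import Cfsg.Agent.LyIndex33.CheckNode0
import Cfsg.Agent.LyIndex33.CheckNode1
import Cfsg.Agent.LyIndex33.CheckNode3
import Cfsg.Agent.LyIndex33.CheckNode4
import Cfsg.Agent.LyIndex33.CheckNode5
import Cfsg.Agent.LyCover50.Ids

/-!
The index bound for the Lyons relators 73 to 82 and 84 over a copy of the matrix group.
-/

set_option autoImplicit false
set_option maxRecDepth 100000
set_option linter.unusedSimpArgs false
set_option linter.unusedVariables false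

namespace CfsgLib.Ly33

open CfsgLib.DCert22

attribute [local irreducible] mulP invP cparts glIx el sEl sIm blIx tqIx tiIx r5Ix r5IIx letIx inC inPar canonV imgV

/-- an image of the group with an element satisfying the relators -/
structure Setup {E : Type*} [Group E] (L : Subgroup E) where
  /-- the map -/
  φ : Hg →* E
  /-- the extra element -/
  t : E
  rels : LyCover50.ZRels (φ hA) (φ hB) (φ hC) (φ hD) t
  range_le : φ.range ≤ L

theorem enc_s0 : enc hC = sEl 0 := by
  simp only [LyCover50.wc2, LyCover50.wc3, LyCover50.wc4, LyCover50.wc5, LyCover50.wa2, LyCover50.wa3, LyCover50.wa4, LyCover50.wx162, LyCover50.wx163, LyCover50.wx164, LyCover50.wx165, LyCover50.wx166, LyCover50.wx167, LyCover50.wx168, LyCover50.wx169, LyCover50.wx29, LyCover50.wx369, pow_succ, pow_zero, one_mul, enc_mul, enc_inv, enc_A, enc_B, enc_C, enc_D]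
  decide +kernel

theorem enc_t0 : enc (LyCover50.wx162 hA hB hC) = sIm 0 := by
  simp only [LyCover50.wc2, LyCover50.wc3, LyCover50.wc4, LyCover50.wc5, LyCover50.wa2, LyCover50.wa3, LyCover50.wa4, LyCover50.wx162, LyCover50.wx163, LyCover50.wx164, LyCover50.wx165, LyCover50.wx166, LyCover50.wx167, LyCover50.wx168, LyCover50.wx169, LyCover50.wx29, LyCover50.wx369, pow_succ, pow_zero, one_mul, enc_mul, enc_inv, enc_A, enc_B, enc_C, enc_D]
  decide +kernel

theorem enc_s1 : enc (LyCover50.wc2 hA hC) = sEl 1 := by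
  simp only [LyCover50.wc2, LyCover50.wc3, LyCover50.wc4, LyCover50.wc5, LyCover50.wa2, LyCover50.wa3, LyCover50.wa4, LyCover50.wx162, LyCover50.wx163, LyCover50.wx164, LyCover50.wx165, LyCover50.wx166, LyCover50.wx167, LyCover50.wx168, LyCover50.wx169, LyCover50.wx29, LyCover50.wx369, pow_succ, pow_zero, one_mul, enc_mul, enc_inv, enc_A, enc_B, enc_C, enc_D]
  decide +kernel

theorem enc_t1 : enc (LyCover50.wx163 hA hB hC) = sIm 1 := by
  simp only [LyCover50.wc2, LyCover50.wc3, LyCover50.wc4, LyCover50.wc5, LyCover50.wa2, LyCover50.wa3, LyCover50.wa4, LyCover50.wx162, LyCover50.wx163, LyCover50.wx164, LyCover50.wx165, LyCover50.wx166, LyCover50.wx167, LyCover50.wx168, LyCover50.wx169, LyCover50.wx29, LyCover50.wx369, pow_succ, pow_zero, one_mul, enc_mul, enc_inv, enc_A, enc_B, enc_C, enc_D]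
  decide +kernel

theorem enc_s2 : enc (LyCover50.wc3 hB hC) = sEl 2 := by
  simp only [LyCover50.wc2, LyCover50.wc3, LyCover50.wc4, LyCover50.wc5, LyCover50.wa2, LyCover50.wa3, LyCover50.wa4, LyCover50.wx162, LyCover50.wx163, LyCover50.wx164, LyCover50.wx165, LyCover50.wx166, LyCover50.wx167, LyCover50.wx168, LyCover50.wx169, LyCover50.wx29, LyCover50.wx369, pow_succ, pow_zero, one_mul, enc_mul, enc_inv, enc_A, enc_B, enc_C, enc_D]
  decide +kernel

theorem enc_t2 : enc (LyCover50.wx164 hA hB hC) = sIm 2 := by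
  simp only [LyCover50.wc2, LyCover50.wc3, LyCover50.wc4, LyCover50.wc5, LyCover50.wa2, LyCover50.wa3, LyCover50.wa4, LyCover50.wx162, LyCover50.wx163, LyCover50.wx164, LyCover50.wx165, LyCover50.wx166, LyCover50.wx167, LyCover50.wx168, LyCover50.wx169, LyCover50.wx29, LyCover50.wx369, pow_succ, pow_zero, one_mul, enc_mul, enc_inv, enc_A, enc_B, enc_C, enc_D]
  decide +kernel

theorem enc_s3 : enc (LyCover50.wc4 hB hC) = sEl 3 := by
  simp only [LyCover50.wc2, LyCover50.wc3, LyCover50.wc4, LyCover50.wc5, LyCover50.wa2, LyCover50.wa3, LyCover50.wa4, LyCover50.wx162, LyCover50.wx163, LyCover50.wx164, LyCover50.wx165, LyCover50.wx166, LyCover50.wx167, LyCover50.wx168, LyCover50.wx169, LyCover50.wx29, LyCover50.wx369, pow_succ, pow_zero, one_mul, enc_mul, enc_inv, enc_A, enc_B, enc_C, enc_D]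
  decide +kernel

theorem enc_t3 : enc (LyCover50.wx165 hA hB hC) = sIm 3 := by
  simp only [LyCover50.wc2, LyCover50.wc3, LyCover50.wc4, LyCover50.wc5, LyCover50.wa2, LyCover50.wa3, LyCover50.wa4, LyCover50.wx162, LyCover50.wx163, LyCover50.wx164, LyCover50.wx165, LyCover50.wx166, LyCover50.wx167, LyCover50.wx168, LyCover50.wx169, LyCover50.wx29, LyCover50.wx369, pow_succ, pow_zero, one_mul, enc_mul, enc_inv, enc_A, enc_B, enc_C, enc_D]
  decide +kernel

theorem enc_s4 : enc (LyCover50.wc5 hA hC) = sEl 4 := by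
  simp only [LyCover50.wc2, LyCover50.wc3, LyCover50.wc4, LyCover50.wc5, LyCover50.wa2, LyCover50.wa3, LyCover50.wa4, LyCover50.wx162, LyCover50.wx163, LyCover50.wx164, LyCover50.wx165, LyCover50.wx166, LyCover50.wx167, LyCover50.wx168, LyCover50.wx169, LyCover50.wx29, LyCover50.wx369, pow_succ, pow_zero, one_mul, enc_mul, enc_inv, enc_A, enc_B, enc_C, enc_D]
  decide +kernel

theorem enc_t4 : enc (LyCover50.wx166 hA hB hC) = sIm 4 := by
  simp only [LyCover50.wc2, LyCover50.wc3, LyCover50.wc4, LyCover50.wc5, LyCover50.wa2, LyCover50.wa3, LyCover50.wa4, LyCover50.wx162, LyCover50.wx163, LyCover50.wx164, LyCover50.wx165, LyCover50.wx166, LyCover50.wx167, LyCover50.wx168, LyCover50.wx169, LyCover50.wx29, LyCover50.wx369, pow_succ, pow_zero, one_mul, enc_mul, enc_inv, enc_A, enc_B, enc_C, enc_D]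
  decide +kernel

theorem enc_s5 : enc hA = sEl 5 := by
  simp only [LyCover50.wc2, LyCover50.wc3, LyCover50.wc4, LyCover50.wc5, LyCover50.wa2, LyCover50.wa3, LyCover50.wa4, LyCover50.wx162, LyCover50.wx163, LyCover50.wx164, LyCover50.wx165, LyCover50.wx166, LyCover50.wx167, LyCover50.wx168, LyCover50.wx169, LyCover50.wx29, LyCover50.wx369, pow_succ, pow_zero, one_mul, enc_mul, enc_inv, enc_A, enc_B, enc_C, enc_D]
  decide +kernel

theorem enc_t5 : enc (LyCover50.wx167 hA) = sIm 5 := by
  simp only [LyCover50.wc2, LyCover50.wc3, LyCover50.wc4, LyCover50.wc5, LyCover50.wa2, LyCover50.wa3, LyCover50.wa4, LyCover50.wx162, LyCover50.wx163, LyCover50.wx164, LyCover50.wx165, LyCover50.wx166, LyCover50.wx167, LyCover50.wx168, LyCover50.wx169, LyCover50.wx29, LyCover50.wx369, pow_succ, pow_zero, one_mul, enc_mul, enc_inv, enc_A, enc_B, enc_C, enc_D]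
  decide +kernel

theorem enc_s6 : enc (LyCover50.wa2 hA hB) = sEl 6 := by
  simp only [LyCover50.wc2, LyCover50.wc3, LyCover50.wc4, LyCover50.wc5, LyCover50.wa2, LyCover50.wa3, LyCover50.wa4, LyCover50.wx162, LyCover50.wx163, LyCover50.wx164, LyCover50.wx165, LyCover50.wx166, LyCover50.wx167, LyCover50.wx168, LyCover50.wx169, LyCover50.wx29, LyCover50.wx369, pow_succ, pow_zero, one_mul, enc_mul, enc_inv, enc_A, enc_B, enc_C, enc_D]
  decide +kernel

theorem enc_t6 : enc (LyCover50.wx168 hA hB) = sIm 6 := by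
  simp only [LyCover50.wc2, LyCover50.wc3, LyCover50.wc4, LyCover50.wc5, LyCover50.wa2, LyCover50.wa3, LyCover50.wa4, LyCover50.wx162, LyCover50.wx163, LyCover50.wx164, LyCover50.wx165, LyCover50.wx166, LyCover50.wx167, LyCover50.wx168, LyCover50.wx169, LyCover50.wx29, LyCover50.wx369, pow_succ, pow_zero, one_mul, enc_mul, enc_inv, enc_A, enc_B, enc_C, enc_D]
  decide +kernel

theorem enc_s7 : enc (LyCover50.wa3 hA hB) = sEl 7 := by
  simp only [LyCover50.wc2, LyCover50.wc3, LyCover50.wc4, LyCover50.wc5, LyCover50.wa2, LyCover50.wa3, LyCover50.wa4, LyCover50.wx162, LyCover50.wx163, LyCover50.wx164, LyCover50.wx165, LyCover50.wx166, LyCover50.wx167, LyCover50.wx168, LyCover50.wx169, LyCover50.wx29, LyCover50.wx369, pow_succ, pow_zero, one_mul, enc_mul, enc_inv, enc_A, enc_B, enc_C, enc_D]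
  decide +kernel

theorem enc_t7 : enc (LyCover50.wx169 hA hB) = sIm 7 := by
  simp only [LyCover50.wc2, LyCover50.wc3, LyCover50.wc4, LyCover50.wc5, LyCover50.wa2, LyCover50.wa3, LyCover50.wa4, LyCover50.wx162, LyCover50.wx163, LyCover50.wx164, LyCover50.wx165, LyCover50.wx166, LyCover50.wx167, LyCover50.wx168, LyCover50.wx169, LyCover50.wx29, LyCover50.wx369, pow_succ, pow_zero, one_mul, enc_mul, enc_inv, enc_A, enc_B, enc_C, enc_D]
  decide +kernel

theorem enc_r0_0 : enc (LyCover50.wa4 hA hB) = 461742260113998350081576196926539067403838507675237848226144360170661934246994947593254574027894182209716320469760 := by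
  simp only [LyCover50.wc2, LyCover50.wc3, LyCover50.wc4, LyCover50.wc5, LyCover50.wa2, LyCover50.wa3, LyCover50.wa4, LyCover50.wx162, LyCover50.wx163, LyCover50.wx164, LyCover50.wx165, LyCover50.wx166, LyCover50.wx167, LyCover50.wx168, LyCover50.wx169, LyCover50.wx29, LyCover50.wx369, pow_succ, pow_zero, one_mul, enc_mul, enc_inv, enc_A, enc_B, enc_C, enc_D]
  decide +kernel

theorem enc_r0_1 : enc (LyCover50.wa4 hA hB) = 461742260113998350081576196926539067403838507675237848226144360170661934246994947593254574027894182209716320469760 := by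
  simp only [LyCover50.wc2, LyCover50.wc3, LyCover50.wc4, LyCover50.wc5, LyCover50.wa2, LyCover50.wa3, LyCover50.wa4, LyCover50.wx162, LyCover50.wx163, LyCover50.wx164, LyCover50.wx165, LyCover50.wx166, LyCover50.wx167, LyCover50.wx168, LyCover50.wx169, LyCover50.wx29, LyCover50.wx369, pow_succ, pow_zero, one_mul, enc_mul, enc_inv, enc_A, enc_B, enc_C, enc_D]
  decide +kernel

theorem enc_r0_2 : enc ((hA ^ 2) * (LyCover50.wa4 hA hB)) = 615656346818665378129903588823687245081044798011176175857532827887214997802209131520591151273999923630611684655360 := by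
  simp only [LyCover50.wc2, LyCover50.wc3, LyCover50.wc4, LyCover50.wc5, LyCover50.wa2, LyCover50.wa3, LyCover50.wa4, LyCover50.wx162, LyCover50.wx163, LyCover50.wx164, LyCover50.wx165, LyCover50.wx166, LyCover50.wx167, LyCover50.wx168, LyCover50.wx169, LyCover50.wx29, LyCover50.wx369, pow_succ, pow_zero, one_mul, enc_mul, enc_inv, enc_A, enc_B, enc_C, enc_D]
  decide +kernel

theorem enc_r1_0 : enc (LyCover50.wa4 hA hB) = 461742260113998350081576196926539067403838507675237848226144360170661934246994947593254574027894182209716320469760 := by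
  simp only [LyCover50.wc2, LyCover50.wc3, LyCover50.wc4, LyCover50.wc5, LyCover50.wa2, LyCover50.wa3, LyCover50.wa4, LyCover50.wx162, LyCover50.wx163, LyCover50.wx164, LyCover50.wx165, LyCover50.wx166, LyCover50.wx167, LyCover50.wx168, LyCover50.wx169, LyCover50.wx29, LyCover50.wx369, pow_succ, pow_zero, one_mul, enc_mul, enc_inv, enc_A, enc_B, enc_C, enc_D]
  decide +kernel

theorem enc_r1_1 : enc ((hA ^ 2) * (LyCover50.wa4 hA hB)) = 615656346818665378129903588823687245081044798011176175857532827887214997802209131520591151273999923630611684655360 := by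
  simp only [LyCover50.wc2, LyCover50.wc3, LyCover50.wc4, LyCover50.wc5, LyCover50.wa2, LyCover50.wa3, LyCover50.wa4, LyCover50.wx162, LyCover50.wx163, LyCover50.wx164, LyCover50.wx165, LyCover50.wx166, LyCover50.wx167, LyCover50.wx168, LyCover50.wx169, LyCover50.wx29, LyCover50.wx369, pow_succ, pow_zero, one_mul, enc_mul, enc_inv, enc_A, enc_B, enc_C, enc_D]
  decide +kernel

theorem enc_r1_2 : enc (LyCover50.wa4 hA hB) = 461742260113998350081576196926539067403838507675237848226144360170661934246994947593254574027894182209716320469760 := by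
  simp only [LyCover50.wc2, LyCover50.wc3, LyCover50.wc4, LyCover50.wc5, LyCover50.wa2, LyCover50.wa3, LyCover50.wa4, LyCover50.wx162, LyCover50.wx163, LyCover50.wx164, LyCover50.wx165, LyCover50.wx166, LyCover50.wx167, LyCover50.wx168, LyCover50.wx169, LyCover50.wx29, LyCover50.wx369, pow_succ, pow_zero, one_mul, enc_mul, enc_inv, enc_A, enc_B, enc_C, enc_D]
  decide +kernel

theorem enc_r2_0 : enc ((hA ^ 2) * (LyCover50.wa4 hA hB)) = 615656346818665378129903588823687245081044798011176175857532827887214997802209131520591151273999923630611684655360 := by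
  simp only [LyCover50.wc2, LyCover50.wc3, LyCover50.wc4, LyCover50.wc5, LyCover50.wa2, LyCover50.wa3, LyCover50.wa4, LyCover50.wx162, LyCover50.wx163, LyCover50.wx164, LyCover50.wx165, LyCover50.wx166, LyCover50.wx167, LyCover50.wx168, LyCover50.wx169, LyCover50.wx29, LyCover50.wx369, pow_succ, pow_zero, one_mul, enc_mul, enc_inv, enc_A, enc_B, enc_C, enc_D]
  decide +kernel

theorem enc_r2_1 : enc (LyCover50.wa4 hA hB) = 461742260113998350081576196926539067403838507675237848226144360170661934246994947593254574027894182209716320469760 := by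
  simp only [LyCover50.wc2, LyCover50.wc3, LyCover50.wc4, LyCover50.wc5, LyCover50.wa2, LyCover50.wa3, LyCover50.wa4, LyCover50.wx162, LyCover50.wx163, LyCover50.wx164, LyCover50.wx165, LyCover50.wx166, LyCover50.wx167, LyCover50.wx168, LyCover50.wx169, LyCover50.wx29, LyCover50.wx369, pow_succ, pow_zero, one_mul, enc_mul, enc_inv, enc_A, enc_B, enc_C, enc_D]
  decide +kernel

theorem enc_r2_2 : enc (LyCover50.wa4 hA hB) = 461742260113998350081576196926539067403838507675237848226144360170661934246994947593254574027894182209716320469760 := by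
  simp only [LyCover50.wc2, LyCover50.wc3, LyCover50.wc4, LyCover50.wc5, LyCover50.wa2, LyCover50.wa3, LyCover50.wa4, LyCover50.wx162, LyCover50.wx163, LyCover50.wx164, LyCover50.wx165, LyCover50.wx166, LyCover50.wx167, LyCover50.wx168, LyCover50.wx169, LyCover50.wx29, LyCover50.wx369, pow_succ, pow_zero, one_mul, enc_mul, enc_inv, enc_A, enc_B, enc_C, enc_D]
  decide +kernel

theorem enc_r3_0 : enc ((hA ^ 2)⁻¹ * hD⁻¹) = 35835915874844867370861745497112926758181985292425998209116821071918865997033194869462939937546906370048 := by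
  simp only [LyCover50.wc2, LyCover50.wc3, LyCover50.wc4, LyCover50.wc5, LyCover50.wa2, LyCover50.wa3, LyCover50.wa4, LyCover50.wx162, LyCover50.wx163, LyCover50.wx164, LyCover50.wx165, LyCover50.wx166, LyCover50.wx167, LyCover50.wx168, LyCover50.wx169, LyCover50.wx29, LyCover50.wx369, pow_succ, pow_zero, one_mul, enc_mul, enc_inv, enc_A, enc_B, enc_C, enc_D]
  decide +kernel

theorem enc_r3_1 : enc ((hA ^ 2)⁻¹ * (LyCover50.wx369 hA hB hC hD)) = 603612283374362597992609715265600624324867488484083991287530203851836680264167391339730358515862513892982915072 := by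
  simp only [LyCover50.wc2, LyCover50.wc3, LyCover50.wc4, LyCover50.wc5, LyCover50.wa2, LyCover50.wa3, LyCover50.wa4, LyCover50.wx162, LyCover50.wx163, LyCover50.wx164, LyCover50.wx165, LyCover50.wx166, LyCover50.wx167, LyCover50.wx168, LyCover50.wx169, LyCover50.wx29, LyCover50.wx369, pow_succ, pow_zero, one_mul, enc_mul, enc_inv, enc_A, enc_B, enc_C, enc_D]
  decide +kernel

theorem enc_r3_2 : enc hD = 71671831749689734741723490878433764279047775155003909674159053526391675416602763197992543265004302893056 := by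
  simp only [LyCover50.wc2, LyCover50.wc3, LyCover50.wc4, LyCover50.wc5, LyCover50.wa2, LyCover50.wa3, LyCover50.wa4, LyCover50.wx162, LyCover50.wx163, LyCover50.wx164, LyCover50.wx165, LyCover50.wx166, LyCover50.wx167, LyCover50.wx168, LyCover50.wx169, LyCover50.wx29, LyCover50.wx369, pow_succ, pow_zero, one_mul, enc_mul, enc_inv, enc_A, enc_B, enc_C, enc_D]
  decide +kernel

theorem enc_r3_3 : enc (LyCover50.wx29 hA hB hC hD) = 1207178517596825978449188209441812439942504002801444098943800743512141271783193536693873497089063254614230499328 := by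
  simp only [LyCover50.wc2, LyCover50.wc3, LyCover50.wc4, LyCover50.wc5, LyCover50.wa2, LyCover50.wa3, LyCover50.wa4, LyCover50.wx162, LyCover50.wx163, LyCover50.wx164, LyCover50.wx165, LyCover50.wx166, LyCover50.wx167, LyCover50.wx168, LyCover50.wx169, LyCover50.wx29, LyCover50.wx369, pow_succ, pow_zero, one_mul, enc_mul, enc_inv, enc_A, enc_B, enc_C, enc_D]
  decide +kernel

theorem enc_r4_0 : enc ((hA ^ 2)⁻¹ * (LyCover50.wx369 hA hB hC hD)) = 603612283374362597992609715265600624324867488484083991287530203851836680264167391339730358515862513892982915072 := by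
  simp only [LyCover50.wc2, LyCover50.wc3, LyCover50.wc4, LyCover50.wc5, LyCover50.wa2, LyCover50.wa3, LyCover50.wa4, LyCover50.wx162, LyCover50.wx163, LyCover50.wx164, LyCover50.wx165, LyCover50.wx166, LyCover50.wx167, LyCover50.wx168, LyCover50.wx169, LyCover50.wx29, LyCover50.wx369, pow_succ, pow_zero, one_mul, enc_mul, enc_inv, enc_A, enc_B, enc_C, enc_D]
  decide +kernel

theorem enc_r4_1 : enc hD = 71671831749689734741723490878433764279047775155003909674159053526391675416602763197992543265004302893056 := by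
  simp only [LyCover50.wc2, LyCover50.wc3, LyCover50.wc4, LyCover50.wc5, LyCover50.wa2, LyCover50.wa3, LyCover50.wa4, LyCover50.wx162, LyCover50.wx163, LyCover50.wx164, LyCover50.wx165, LyCover50.wx166, LyCover50.wx167, LyCover50.wx168, LyCover50.wx169, LyCover50.wx29, LyCover50.wx369, pow_succ, pow_zero, one_mul, enc_mul, enc_inv, enc_A, enc_B, enc_C, enc_D]
  decide +kernel

theorem enc_r4_2 : enc (LyCover50.wx29 hA hB hC hD) = 1207178517596825978449188209441812439942504002801444098943800743512141271783193536693873497089063254614230499328 := by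
  simp only [LyCover50.wc2, LyCover50.wc3, LyCover50.wc4, LyCover50.wc5, LyCover50.wa2, LyCover50.wa3, LyCover50.wa4, LyCover50.wx162, LyCover50.wx163, LyCover50.wx164, LyCover50.wx165, LyCover50.wx166, LyCover50.wx167, LyCover50.wx168, LyCover50.wx169, LyCover50.wx29, LyCover50.wx369, pow_succ, pow_zero, one_mul, enc_mul, enc_inv, enc_A, enc_B, enc_C, enc_D]
  decide +kernel

theorem enc_r4_3 : enc ((hA ^ 2)⁻¹ * hD⁻¹) = 35835915874844867370861745497112926758181985292425998209116821071918865997033194869462939937546906370048 := by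
  simp only [LyCover50.wc2, LyCover50.wc3, LyCover50.wc4, LyCover50.wc5, LyCover50.wa2, LyCover50.wa3, LyCover50.wa4, LyCover50.wx162, LyCover50.wx163, LyCover50.wx164, LyCover50.wx165, LyCover50.wx166, LyCover50.wx167, LyCover50.wx168, LyCover50.wx169, LyCover50.wx29, LyCover50.wx369, pow_succ, pow_zero, one_mul, enc_mul, enc_inv, enc_A, enc_B, enc_C, enc_D]
  decide +kernel

theorem enc_r5_0 : enc hD = 71671831749689734741723490878433764279047775155003909674159053526391675416602763197992543265004302893056 := by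
  simp only [LyCover50.wc2, LyCover50.wc3, LyCover50.wc4, LyCover50.wc5, LyCover50.wa2, LyCover50.wa3, LyCover50.wa4, LyCover50.wx162, LyCover50.wx163, LyCover50.wx164, LyCover50.wx165, LyCover50.wx166, LyCover50.wx167, LyCover50.wx168, LyCover50.wx169, LyCover50.wx29, LyCover50.wx369, pow_succ, pow_zero, one_mul, enc_mul, enc_inv, enc_A, enc_B, enc_C, enc_D]
  decide +kernel

theorem enc_r5_1 : enc (LyCover50.wx29 hA hB hC hD) = 1207178517596825978449188209441812439942504002801444098943800743512141271783193536693873497089063254614230499328 := by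
  simp only [LyCover50.wc2, LyCover50.wc3, LyCover50.wc4, LyCover50.wc5, LyCover50.wa2, LyCover50.wa3, LyCover50.wa4, LyCover50.wx162, LyCover50.wx163, LyCover50.wx164, LyCover50.wx165, LyCover50.wx166, LyCover50.wx167, LyCover50.wx168, LyCover50.wx169, LyCover50.wx29, LyCover50.wx369, pow_succ, pow_zero, one_mul, enc_mul, enc_inv, enc_A, enc_B, enc_C, enc_D]
  decide +kernel

theorem enc_r5_2 : enc ((hA ^ 2)⁻¹ * hD⁻¹) = 35835915874844867370861745497112926758181985292425998209116821071918865997033194869462939937546906370048 := by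
  simp only [LyCover50.wc2, LyCover50.wc3, LyCover50.wc4, LyCover50.wc5, LyCover50.wa2, LyCover50.wa3, LyCover50.wa4, LyCover50.wx162, LyCover50.wx163, LyCover50.wx164, LyCover50.wx165, LyCover50.wx166, LyCover50.wx167, LyCover50.wx168, LyCover50.wx169, LyCover50.wx29, LyCover50.wx369, pow_succ, pow_zero, one_mul, enc_mul, enc_inv, enc_A, enc_B, enc_C, enc_D]
  decide +kernel

theorem enc_r5_3 : enc ((hA ^ 2)⁻¹ * (LyCover50.wx369 hA hB hC hD)) = 603612283374362597992609715265600624324867488484083991287530203851836680264167391339730358515862513892982915072 := by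
  simp only [LyCover50.wc2, LyCover50.wc3, LyCover50.wc4, LyCover50.wc5, LyCover50.wa2, LyCover50.wa3, LyCover50.wa4, LyCover50.wx162, LyCover50.wx163, LyCover50.wx164, LyCover50.wx165, LyCover50.wx166, LyCover50.wx167, LyCover50.wx168, LyCover50.wx169, LyCover50.wx29, LyCover50.wx369, pow_succ, pow_zero, one_mul, enc_mul, enc_inv, enc_A, enc_B, enc_C, enc_D]
  decide +kernel

theorem enc_r6_0 : enc (LyCover50.wx29 hA hB hC hD) = 1207178517596825978449188209441812439942504002801444098943800743512141271783193536693873497089063254614230499328 := by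
  simp only [LyCover50.wc2, LyCover50.wc3, LyCover50.wc4, LyCover50.wc5, LyCover50.wa2, LyCover50.wa3, LyCover50.wa4, LyCover50.wx162, LyCover50.wx163, LyCover50.wx164, LyCover50.wx165, LyCover50.wx166, LyCover50.wx167, LyCover50.wx168, LyCover50.wx169, LyCover50.wx29, LyCover50.wx369, pow_succ, pow_zero, one_mul, enc_mul, enc_inv, enc_A, enc_B, enc_C, enc_D]
  decide +kernel

theorem enc_r6_1 : enc ((hA ^ 2)⁻¹ * hD⁻¹) = 35835915874844867370861745497112926758181985292425998209116821071918865997033194869462939937546906370048 := by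
  simp only [LyCover50.wc2, LyCover50.wc3, LyCover50.wc4, LyCover50.wc5, LyCover50.wa2, LyCover50.wa3, LyCover50.wa4, LyCover50.wx162, LyCover50.wx163, LyCover50.wx164, LyCover50.wx165, LyCover50.wx166, LyCover50.wx167, LyCover50.wx168, LyCover50.wx169, LyCover50.wx29, LyCover50.wx369, pow_succ, pow_zero, one_mul, enc_mul, enc_inv, enc_A, enc_B, enc_C, enc_D]
  decide +kernel

theorem enc_r6_2 : enc ((hA ^ 2)⁻¹ * (LyCover50.wx369 hA hB hC hD)) = 603612283374362597992609715265600624324867488484083991287530203851836680264167391339730358515862513892982915072 := by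
  simp only [LyCover50.wc2, LyCover50.wc3, LyCover50.wc4, LyCover50.wc5, LyCover50.wa2, LyCover50.wa3, LyCover50.wa4, LyCover50.wx162, LyCover50.wx163, LyCover50.wx164, LyCover50.wx165, LyCover50.wx166, LyCover50.wx167, LyCover50.wx168, LyCover50.wx169, LyCover50.wx29, LyCover50.wx369, pow_succ, pow_zero, one_mul, enc_mul, enc_inv, enc_A, enc_B, enc_C, enc_D]
  decide +kernel

theorem enc_r6_3 : enc hD = 71671831749689734741723490878433764279047775155003909674159053526391675416602763197992543265004302893056 := by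
  simp only [LyCover50.wc2, LyCover50.wc3, LyCover50.wc4, LyCover50.wc5, LyCover50.wa2, LyCover50.wa3, LyCover50.wa4, LyCover50.wx162, LyCover50.wx163, LyCover50.wx164, LyCover50.wx165, LyCover50.wx166, LyCover50.wx167, LyCover50.wx168, LyCover50.wx169, LyCover50.wx29, LyCover50.wx369, pow_succ, pow_zero, one_mul, enc_mul, enc_inv, enc_A, enc_B, enc_C, enc_D]
  decide +kernel

theorem enc_u : enc (hA ^ 2) = uP := by
  simp only [LyCover50.wc2, LyCover50.wc3, LyCover50.wc4, LyCover50.wc5, LyCover50.wa2, LyCover50.wa3, LyCover50.wa4, LyCover50.wx162, LyCover50.wx163, LyCover50.wx164, LyCover50.wx165, LyCover50.wx166, LyCover50.wx167, LyCover50.wx168, LyCover50.wx169, LyCover50.wx29, LyCover50.wx369, pow_succ, pow_zero, one_mul, enc_mul, enc_inv, enc_A, enc_B, enc_C, enc_D]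
  decide +kernel

theorem lettersOK_spec : ∀ (T : VT) (i j : ℕ), lettersOK T i = some j → ∀ n, T.has n = true → InH n
  | .nil, _, _, _, n, h => by simp [VT.has] at h
  | .node v l r, i, j, h, n, hn => by
    simp only [lettersOK] at h
    split at h
    swap; · cases h
    next k hk =>
    cases hc : (Nat.blt k 865 && (Nat.blt (letIx k) 10489 && Nat.beq v (el (letIx k)))) with
    | false => simp [hc] at h
    | true =>
      simp only [hc, cond_true] at h
      simp only [Bool.and_eq_true, Nat.blt, Nat.ble_eq] at hc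
      simp only [VT.has] at hn
      cases hb : Nat.beq n v with
      | true =>
        rw [Nat.eq_of_beq_eq_true hb, Nat.eq_of_beq_eq_true hc.2.2]
        exact (el_ok _ hc.2.1).1
      | false =>
        simp only [hb, cond_false] at hn
        cases hl : Nat.blt n v with
        | true =>
          simp only [hl, cond_true] at hn
          exact lettersOK_spec l i k hk n hn
        | false =>
          simp only [hl, cond_false] at hn
          exact lettersOK_spec r (k + 1) j h n hn

theorem letters_valid {n : ℕ} (h : lettersT.has n = true) : InH n := by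
  obtain ⟨j, hj⟩ := Option.isSome_iff_exists.1 letters_ok
  exact lettersOK_spec _ _ _ hj n h

theorem linkRange_spec {a nl : ℕ} {ly lq lf lp : ℕ → ℕ} {roots : List ℕ} : ∀ {s k : ℕ},
    linkRange a nl ly lq lf lp roots s k = true → ∀ m, s ≤ m → m < s + k →
      linkRange a nl ly lq lf lp roots m 1 = true
  | s, 0, _, m, h1, h2 => absurd h2 (by omega)
  | s, k + 1, h, m, h1, h2 => by
    rw [linkRange, Bool.and_eq_true] at h
    rcases Nat.lt_or_ge m (s + k) with h3 | h3
    · exact linkRange_spec h.1 m h1 h3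
    · obtain rfl : m = s + k := by omega
      rw [linkRange, linkRange, Bool.true_and]
      exact h.2

theorem coverOK_spec {nl : ℕ} {ly lp : ℕ → ℕ} {roots : List ℕ} : ∀ {s k : ℕ},
    coverOK nl ly lp roots s k = true → ∀ m, s ≤ m → m < s + k → coverOK nl ly lp roots m 1 = true
  | s, 0, _, m, h1, h2 => absurd h2 (by omega)
  | s, k + 1, h, m, h1, h2 => by
    rw [coverOK, Bool.and_eq_true] at h
    rcases Nat.lt_or_ge m (s + k) with h3 | h3
    · exact coverOK_spec h.1 m h1 h3
    · obtain rfl : m = s + k := by omega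
      rw [coverOK, coverOK, Bool.true_and]
      exact h.2

theorem fixFact_spec {a f k : ℕ} (h : fixFact a f = some k) : ∃ z, factsAll.get f = some z ∧
    f < 963 ∧ z.e = false ∧ z.a = a ∧ z.b = a ∧ z.y = oneP ∧ z.x = k := by
  unfold fixFact at h
  split at h
  swap; · cases h
  next z hz =>
  cases hc : (Nat.blt f 963 && (!z.e && (Nat.beq z.a a && (Nat.beq z.b a && Nat.beq z.y oneP)))) with
  | false => simp [hc] at h
  | true =>
    simp only [hc, cond_true, Option.some.injEq] at h
    simp only [Bool.and_eq_true, Nat.blt, Nat.ble_eq, Bool.not_eq_true'] at hc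
    obtain ⟨h1, h2, h3, h4, h5⟩ := hc
    exact ⟨z, hz, h1, h2, Nat.eq_of_beq_eq_true h3, Nat.eq_of_beq_eq_true h4, Nat.eq_of_beq_eq_true h5, h⟩

theorem canonV_iff {p : ℕ} : canonV p = true → pack (unp p) = p := by
  intro h
  simp only [canonV, Bool.and_eq_true, Nat.blt, Nat.ble_eq] at h
  have key : ∀ m q, q < 256 ^ m → pk (fun i => q / 256 ^ i % 256) m = q := by
    intro m
    induction m with
    | zero => intro q hq; simp at hq; simp [pk, hq]
    | succ m ih =>
      intro q hq
      have h2 : q / 256 < 256 ^ m := by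
        rw [Nat.div_lt_iff_lt_mul (by norm_num)]; rwa [← pow_succ]
      simp only [pk, pow_zero, Nat.div_one]
      have e : (fun i => q / 256 ^ (i + 1) % 256) = fun i => q / 256 / 256 ^ i % 256 := by
        funext i; rw [Nat.div_div_eq_div_mul, ← pow_succ']
      rw [e, ih _ h2, Nat.mod_add_div]
  conv_rhs => rw [← key 49 p h.1]
  refine pk_congr fun i hi => ?_
  have h5 := allLt_spec h.2 i hi
  simp only [Nat.blt, Nat.ble_eq] at h5
  have hd : dg p i = p / 256 ^ i % 256 := by
    show (p >>> (8 * i)) &&& 255 = _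
    rw [Nat.shiftRight_eq_div_pow, pow_mul, show (255 : ℕ) = 2 ^ 8 - 1 from rfl,
      Nat.and_two_pow_sub_one_eq_mod]
    norm_num
  rw [dig, dif_pos hi, unp, Matrix.of_apply, ← hd, show 7 * (i / 7) + i % 7 = i by omega,
    ZMod.val_natCast, Nat.mod_eq_of_lt h5]

theorem canonV_pack (M : Mat) : canonV (pack M) = true := by
  have hb : ∀ i, dig M i < 256 := fun i => lt_trans (dig_lt M i) (by norm_num)
  have h1 : ∀ m (f : ℕ → ℕ), (∀ i, f i < 256) → pk f m < 256 ^ m := by
    intro m
    induction m with
    | zero => intro f _; simp [pk]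
    | succ m ih =>
      intro f hf
      have := ih (fun i => f (i + 1)) fun i => hf _
      have := hf 0
      simp only [pk, pow_succ']
      omega
  have h2 : ∀ i < 49, dg (pack M) i < 5 := by
    intro i hi
    have h := congrArg ZMod.val (congrFun (congrFun (unp_pack M) ⟨i / 7, by omega⟩) ⟨i % 7, by omega⟩)
    rw [unp, Matrix.of_apply, show 7 * (i / 7) + i % 7 = i by omega] at h
    have hd : dg (pack M) i = dig M i := by
      show (pack M >>> (8 * i)) &&& 255 = _
      rw [Nat.shiftRight_eq_div_pow, pow_mul, show (2 : ℕ) ^ 8 = 256 from rfl, pack,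
        pk_shift (fun k hk => dig_out M hk) hb, show (255 : ℕ) = 2 ^ 8 - 1 from rfl,
        Nat.and_two_pow_sub_one_eq_mod]
      show (dig M (0 + i) + 256 * _) % 2 ^ 8 = _
      rw [zero_add, show (2 : ℕ) ^ 8 = 256 from rfl, Nat.add_mul_mod_self_left, Nat.mod_eq_of_lt (hb _)]
    rw [hd]
    exact dig_lt M i
  have aux : ∀ k, (∀ i < k, Nat.blt (dg (pack M) i) 5 = true) →
      allLt (fun i => Nat.blt (dg (pack M) i) 5) k = true := by
    intro k
    induction k with
    | zero => intro _; rfl
    | succ k ih =>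
      intro h
      simp only [allLt, Bool.and_eq_true]
      exact ⟨ih fun i hi => h i (Nat.lt_succ_of_lt hi), h k (Nat.lt_succ_self k)⟩
  unfold canonV
  rw [Bool.and_eq_true]
  refine ⟨?_, aux 49 fun i hi => ?_⟩
  · simp only [Nat.blt, Nat.ble_eq]
    exact h1 49 (dig M) hb
  · simpa [Nat.blt, Nat.ble_eq] using h2 i hi

namespace Setup

variable {E : Type*} [Group E] {L : Subgroup E} (S : Setup L)

/-- the relation of the extra element -/
def Tw (a b : ℕ) : Prop := ∃ x y : Hg, enc x = a ∧ enc y = b ∧ S.φ x * S.t = S.t * S.φ y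

theorem tw_one : S.Tw oneP oneP := ⟨1, 1, enc_one, enc_one, by rw [map_one, one_mul, mul_one]⟩

theorem tw_mul {a b c d : ℕ} : S.Tw a b → S.Tw c d → S.Tw (mulP a c) (mulP b d) := by
  rintro ⟨x, y, rfl, rfl, h⟩ ⟨x', y', rfl, rfl, h'⟩
  exact ⟨x * x', y * y', enc_mul x x', enc_mul y y', by
    rw [map_mul, map_mul, mul_assoc, h', ← mul_assoc, h, mul_assoc]⟩

theorem conj_rel {x y z : E} (h : z⁻¹ * x * z = y) : x * z = z * y := by rw [← h]; group

theorem tw_seed : ∀ k < 8, S.Tw (sEl k) (sIm k) := by
  intro k hk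
  obtain ⟨h1, h2, h3, h4, h5, h6, h7, h8, -, -, -⟩ := S.rels
  simp only [← LyCover50.map_wc2, ← LyCover50.map_wc3, ← LyCover50.map_wc4, ← LyCover50.map_wc5,
    ← LyCover50.map_wa2, ← LyCover50.map_wa3, ← LyCover50.map_wx162, ← LyCover50.map_wx163,
    ← LyCover50.map_wx164, ← LyCover50.map_wx165, ← LyCover50.map_wx166, ← LyCover50.map_wx167,
    ← LyCover50.map_wx168, ← LyCover50.map_wx169] at h1 h2 h3 h4 h5 h6 h7 h8
  interval_cases k
  · exact ⟨_, _, enc_s0, enc_t0, conj_rel h1⟩
  · exact ⟨_, _, enc_s1, enc_t1, conj_rel h2⟩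
  · exact ⟨_, _, enc_s2, enc_t2, conj_rel h3⟩
  · exact ⟨_, _, enc_s3, enc_t3, conj_rel h4⟩
  · exact ⟨_, _, enc_s4, enc_t4, conj_rel h5⟩
  · exact ⟨_, _, enc_s5, enc_t5, conj_rel h6⟩
  · exact ⟨_, _, enc_s6, enc_t6, conj_rel h7⟩
  · exact ⟨_, _, enc_s7, enc_t7, conj_rel h8⟩

theorem t_sq : S.t * S.t = S.φ (hA ^ 2) := by rw [← pow_two, S.rels.r81, map_pow]

/-- the coding of the group -/
def model : Model code E Hg where
  enc := enc
  hom := S.φ
  t := S.t
  enc_inj := enc_inj
  enc_one := enc_one
  enc_mul := enc_mul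
  enc_inv := enc_inv
  valid_spec := fun _ h => letters_valid h
  u_spec := ⟨_, enc_u, S.t_sq⟩
  cim_spec := by
    intro c d h
    change cimP c = some d at h
    unfold cimP at h
    cases hc : inC c with
    | false => simp [hc] at h
    | true =>
      simp only [hc, cond_true, Option.some.injEq] at h
      obtain ⟨hp, hv⟩ := inC_spec hc
      subst h
      obtain ⟨x, y, hx, hy, hh⟩ :=
        rel_parts S.Tw S.tw_one S.tw_seed (fun h h' => S.tw_mul h h') hp
      exact ⟨x, y, hx.trans hv.symm, hy, hh⟩

theorem val_code {x : Hg} {n : ℕ} (h : enc x = n) : S.model.val n = S.φ x := by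
  subst h; exact S.model.val_enc x

theorem rot {x y : E} (h : x * y = 1) : y * x = 1 := by
  rw [eq_inv_of_mul_eq_one_left h, mul_inv_cancel]

theorem conj_eq_one {x y : E} (g : E) (h : y = 1) (e : x = g⁻¹ * y * g) : x = 1 := by
  rw [e, h]; group

theorem cert_ok : CertOK S.model L cert := by
  obtain ⟨-, -, -, -, -, -, -, -, -, h82, h84⟩ := S.rels
  simp only [← LyCover50.map_wa4, ← LyCover50.map_wx29, ← LyCover50.map_wx369] at h82 h84
  have ht : S.t⁻¹ = S.t * (S.φ (hA ^ 2))⁻¹ := by rw [← S.t_sq]; group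
  rw [pow_succ, pow_two, ← map_pow] at h82
  rw [ht] at h84
  have hone : S.model.val 39402006196394479214415027136064523887590553065872314977980846013346449130061698275692255149584597951633472719159297 = 1 := by rw [S.val_code (show enc 1 = 39402006196394479214415027136064523887590553065872314977980846013346449130061698275692255149584597951633472719159297 from enc_one), map_one]
  refine ⟨?_, ?_, ?_⟩
  · intro k a x h
    have hk : k < cert.nodes.length := (List.getElem?_eq_some_iff.1 h).1
    have : ∀ k < cert.nodes.length, ∀ z, cert.nodes[k]? = some z → z.1 ≤ k := by decide +kernel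
    exact this k hk _ h
  · intro i w hw
    have hi : i < 7 := (List.getElem?_eq_some_iff.1 hw).1
    interval_cases i <;> simp only [cert, List.getElem?_cons_zero, List.getElem?_cons_succ, Option.some.injEq] at hw <;>
      subst hw <;>
      simp only [Model.wordVal, List.map_cons, List.map_nil, List.prod_cons, List.prod_nil, mul_one]
    · simp only [hone, show S.model.t = S.t from rfl, S.val_code enc_r0_0, S.val_code enc_r0_1, S.val_code enc_r0_2]
      simp only [map_one, one_mul, map_mul, map_inv, map_pow, ← mul_assoc] at *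
      exact conj_eq_one (S.φ (LyCover50.wa4 hA hB)) h82 (by group)
    · simp only [hone, show S.model.t = S.t from rfl, S.val_code enc_r1_0, S.val_code enc_r1_1, S.val_code enc_r1_2]
      simp only [map_one, one_mul, map_mul, map_inv, map_pow, ← mul_assoc] at *
      exact conj_eq_one (S.φ (LyCover50.wa4 hA hB) * S.t * S.φ (LyCover50.wa4 hA hB)) h82 (by group)
    · simp only [hone, show S.model.t = S.t from rfl, S.val_code enc_r2_0, S.val_code enc_r2_1, S.val_code enc_r2_2]
      simp only [map_one, one_mul, map_mul, map_inv, map_pow, ← mul_assoc] at *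
      exact conj_eq_one (S.φ (LyCover50.wa4 hA hB) * S.t * S.φ (LyCover50.wa4 hA hB) * S.t * S.φ (LyCover50.wa4 hA hB)) h82 (by group)
    · simp only [hone, show S.model.t = S.t from rfl, S.val_code enc_r3_0, S.val_code enc_r3_1, S.val_code enc_r3_2, S.val_code enc_r3_3]
      simp only [map_one, one_mul, map_mul, map_inv, map_pow, ← mul_assoc] at *
      exact conj_eq_one (1) h84 (by group)
    · simp only [hone, show S.model.t = S.t from rfl, S.val_code enc_r4_0, S.val_code enc_r4_1, S.val_code enc_r4_2, S.val_code enc_r4_3]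
      simp only [map_one, one_mul, map_mul, map_inv, map_pow, ← mul_assoc] at *
      exact conj_eq_one (S.t * ((S.φ hA ^ 2)⁻¹ * (S.φ hD)⁻¹)) h84 (by group)
    · simp only [hone, show S.model.t = S.t from rfl, S.val_code enc_r5_0, S.val_code enc_r5_1, S.val_code enc_r5_2, S.val_code enc_r5_3]
      simp only [map_one, one_mul, map_mul, map_inv, map_pow, ← mul_assoc] at *
      exact conj_eq_one (S.t * ((S.φ hA ^ 2)⁻¹ * (S.φ hD)⁻¹) * S.t * ((S.φ hA ^ 2)⁻¹ * S.φ (LyCover50.wx369 hA hB hC hD))) h84 (by group)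
    · simp only [hone, show S.model.t = S.t from rfl, S.val_code enc_r6_0, S.val_code enc_r6_1, S.val_code enc_r6_2, S.val_code enc_r6_3]
      simp only [map_one, one_mul, map_mul, map_inv, map_pow, ← mul_assoc] at *
      exact conj_eq_one (S.t * ((S.φ hA ^ 2)⁻¹ * (S.φ hD)⁻¹) * S.t * ((S.φ hA ^ 2)⁻¹ * S.φ (LyCover50.wx369 hA hB hC hD)) * S.t * S.φ hD) h84 (by group)
  · intro i w hw
    have hi : i < 4 := (List.getElem?_eq_some_iff.1 hw).1
    have key : ∀ (x : Hg) (v : ℕ), enc x⁻¹ = v → S.model.wordVal (v, []) ∈ L := fun x v hv => by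
      rw [Model.wordVal, List.map_nil, List.prod_nil, mul_one, S.val_code hv]
      exact S.range_le ⟨_, rfl⟩
    interval_cases i <;> simp only [cert, List.getElem?_cons_zero, List.getElem?_cons_succ, Option.some.injEq] at hw <;>
      subst hw
    · exact key hA _ (by rw [enc_inv, enc_A]; decide +kernel)
    · exact key hB _ (by rw [enc_inv, enc_B]; decide +kernel)
    · exact key hC _ (by rw [enc_inv, enc_C]; decide +kernel)
    · exact key hD _ (by rw [enc_inv, enc_D]; decide +kernel)

theorem all_hold : AllHold S.model L cert 963 := by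
  refine allHold_of_ranges S.model S.cert_ok fun i hi => ?_
  rcases Nat.lt_or_ge i 500 with h | h0
  · have := rangeOK_spec facts_ok0 (i - 0) (by omega)
    rwa [Nat.add_sub_cancel' (by omega)] at this
  rcases Nat.lt_or_ge i 963 with h | h1
  · have := rangeOK_spec facts_ok1 (i - 500) (by omega)
    rwa [Nat.add_sub_cancel' (by omega)] at this
  omega

/-- reaching a live node -/
abbrev G' (a h : ℕ) : Prop := Good S.model L cert live a h

theorem mem_cset_cim {c : Hg} (hc : c ∈ Cset) : ∃ d : Hg, S.φ c * S.t = S.t * S.φ d := by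
  obtain ⟨p, hp, e⟩ := hc
  obtain ⟨x, y, hx, -, h⟩ := rel_parts S.Tw S.tw_one S.tw_seed (fun h h' => S.tw_mul h h') hp
  exact ⟨y, by rw [enc_inj (e.trans hx.symm)]; exact h⟩

theorem good_c {a : ℕ} {h c : Hg} (hc : c ∈ Cset) (hg : S.G' a (enc h)) : S.G' a (enc (h * c)) := by
  obtain ⟨b, hb, g, ⟨y, hy⟩, hr⟩ := hg
  obtain ⟨d, hd⟩ := S.mem_cset_cim hc
  refine ⟨b, hb, enc (y * d), ⟨_, rfl⟩, ?_⟩
  have := hr.mul (S.φ d)
  rw [← hy, show S.model.enc y = enc y from rfl] at this
  simp only [stVal, S.val_code rfl, show S.model.t = S.t from rfl, map_mul, mul_assoc] at this ⊢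
  rwa [hd]

theorem good_fix {a f k : ℕ} {h : Hg} (hf : fixFact a f = some k) (hg : S.G' a (enc h)) :
    ∃ x : Hg, enc x = k ∧ S.G' a (enc (x * h)) := by
  obtain ⟨z, hz, hlt, he, ha, hb, hy, hx⟩ := fixFact_spec hf
  obtain ⟨⟨x, hxe⟩, -, hr⟩ := S.all_hold f hlt z hz
  have hxe' : enc x = k := hxe.trans hx
  refine ⟨x, hxe', ?_⟩
  obtain ⟨b, hb', g, og, hr2⟩ := hg
  refine ⟨b, hb', g, og, ?_⟩
  simp only [he, Bool.false_eq_true, if_false, mul_one, ha, hb, hy, hx] at hr
  have h1 := hr.mul (S.φ h * S.t)
  simp only [stVal, show oneP = code.one from rfl, S.model.val_one, S.val_code hxe', mul_one] at h1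
  refine Rel.trans ?_ hr2
  simp only [stVal, S.val_code rfl, show S.model.t = S.t from rfl, map_mul, mul_assoc] at h1 ⊢
  exact h1

theorem cset_inv {c : Hg} (hc : c ∈ Cset) : c⁻¹ ∈ Cset := by
  have h : ∀ k : ℕ, c ^ k ∈ Cset := by
    intro k
    induction k with
    | zero => rw [pow_zero]; exact one_mem_Cset
    | succ k ih => rw [pow_succ]; exact cset_mul_cset ih hc
  have e : c⁻¹ = c ^ (orderOf c - 1) := by
    refine inv_eq_of_mul_eq_one_right ?_
    rw [← pow_succ', Nat.sub_add_cancel (orderOf_pos c), pow_orderOf_eq_one]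
  exact e ▸ h _

theorem good_point {a : ℕ} {pts : List (ℕ × ℕ × ℕ × ℕ)} {roots : List ℕ}
    (hp : pts.all (ptOK a) = true) (hr : rootsOK roots pts = true) {q i : ℕ} (hq : q ∈ roots)
    (hi : i < 5) : q < 3906 ∧ S.G' a (enc ((tqH q)⁻¹ * (r5H i)⁻¹)) := by
  simp only [rootsOK, List.all_eq_true, Bool.and_eq_true] at hr
  obtain ⟨h1, h2⟩ := hr q hq
  have hq' : q < 3906 := by simpa [Nat.blt, Nat.ble_eq] using h1
  refine ⟨hq', ?_⟩
  have h3 := allLt_spec h2 i hi
  obtain ⟨⟨p, r, ef, kf⟩, hz, hzp⟩ := List.any_eq_true.1 h3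
  obtain rfl : p = 5 * q + i := Nat.eq_of_beq_eq_true hzp
  have h := (List.all_eq_true.1 hp) _ hz
  simp only [ptOK, Bool.and_eq_true, Nat.blt, Nat.ble_eq] at h
  obtain ⟨-, hr', hs, hk⟩ := h
  have hrq : r / 5 < 3906 := by omega
  have hri : r % 5 < 5 := by omega
  let R : Hg := (tqH (r / 5))⁻¹ * (r5H (r % 5))⁻¹
  have hR : enc R = repP r := by
    show enc (_ * _) = _
    rw [enc_mul, (tqH_spec hrq).2.1, (r5H_spec hri).2.2]
    rfl
  have gR : S.G' a (enc R) := by
    split at hs
    swap; · simp at hs
    next b g hst =>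
    have okR : S.model.Ok (repP r) := ⟨R, hR⟩
    obtain ⟨-, og, hrel⟩ := step_spec S.model S.all_hold (p := (a, repP r)) okR hst
    exact ⟨b, List.contains_iff_mem.1 hs, g, og, by simpa [Model.pathVal, hR] using hrel⟩
  let P : Hg := (tqH q)⁻¹ * (r5H i)⁻¹
  cases kf with
  | zero =>
    obtain rfl : 5 * q + i = r := Nat.eq_of_beq_eq_true hk
    have e1 : (5 * q + i) / 5 = q := by omega
    have e2 : (5 * q + i) % 5 = i := by omega
    simpa only [R, e1, e2] using gR
  | succ f =>
    simp only at hk
    split at hk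
    swap; · simp at hk
    next k hkf =>
    obtain ⟨x, hx, gx⟩ := S.good_fix hkf gR
    have hc : r5H i * tqH q * (x * R) ∈ Cset := by
      refine mem_Cset_of_inC ?_
      rw [enc_mul, enc_mul, enc_mul, hx, hR, (tqH_spec hq').1, (r5H_spec hi).1]
      have e1 : Nat.div (5 * q + i) 5 = q := by show (5 * q + i) / 5 = q; omega
      have e2 : Nat.mod (5 * q + i) 5 = i := by show (5 * q + i) % 5 = i; omega
      rw [e1, e2] at hk
      exact hk
    have := S.good_c (cset_inv hc) gx
    rwa [show x * R * (r5H i * tqH q * (x * R))⁻¹ = (tqH q)⁻¹ * (r5H i)⁻¹ by group] at this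

theorem good_node {a nl : ℕ} {ly lq lf lp : ℕ → ℕ} {pts : List (ℕ × ℕ × ℕ × ℕ)} {roots : List ℕ}
    (hp : pts.all (ptOK a) = true) (hr : rootsOK roots pts = true)
    (hl : ∀ m < nl, linkRange a nl ly lq lf lp roots m 1 = true)
    (hc : ∀ q < 3906, coverOK nl ly lp roots q 1 = true) :
    ∀ x, S.model.Ok x → S.G' a x := by
  -- a reached coset of the parabolic subgroup
  let Q : ℕ → Prop := fun q => ∀ s : Hg, s.1 ∈ Pg → S.G' a (enc ((tqH q)⁻¹ * s))
  have root : ∀ q ∈ roots, Q q := by
    intro q hq s hs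
    obtain ⟨c, hcc, i, hi, e⟩ := pset_eq.2 (show (s⁻¹ : Hg).1 ∈ Pg from Pg.inv_mem hs)
    rw [show s = (r5H i)⁻¹ * c⁻¹ by rw [← inv_inv s, e, mul_inv_rev], ← mul_assoc]
    exact S.good_c (cset_inv hcc) (S.good_point hp hr hq hi).2
  have link : ∀ m < nl, Q (ly m) := by
    intro m
    induction m using Nat.strong_induction_on with
    | _ m ih =>
      intro hm s hs
      have h := hl m hm
      simp only [linkRange, Bool.true_and, Bool.and_eq_true, Nat.add_zero, Nat.blt, Nat.ble_eq] at h
      obtain ⟨hq, hy, hsrc, hk⟩ := h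
      have hQ : Q (lq m) := by
        cases hz : Nat.beq (lp (lq m)) 0 with
        | true => rw [hz, cond_true] at hsrc; exact root _ (List.contains_iff_mem.1 hsrc)
        | false =>
          simp only [hz, cond_false, Bool.and_eq_true] at hsrc
          have hne : lp (lq m) ≠ 0 := fun e => by rw [e] at hz; simp at hz
          have hle : lp (lq m) ≤ m := Nat.le_of_ble_eq_true hsrc.1
          have h2 := ih (lp (lq m) - 1) (by omega) (by omega)
          rwa [Nat.eq_of_beq_eq_true hsrc.2] at h2
      split at hk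
      swap; · simp at hk
      next k hkf =>
      obtain ⟨z, hz, hlt, -, -, -, -, hzx⟩ := fixFact_spec hkf
      obtain ⟨⟨x₀, hx₀⟩, -, -⟩ := S.all_hold _ hlt z hz
      have hw : (tqH (ly m) * (x₀ * (tqH (lq m))⁻¹)).1 ∈ Pg := by
        refine pset_eq.1 (inPar_spec ?_)
        rw [enc_mul, enc_mul, (tqH_spec hy).1, (tqH_spec hq).2.1, show enc x₀ = k from hx₀.trans hzx]
        exact hk
      obtain ⟨x, hx, gx⟩ := S.good_fix hkf (hQ ((tqH (ly m) * (x₀ * (tqH (lq m))⁻¹))⁻¹ * s)
        (Pg.mul_mem (Pg.inv_mem hw) hs))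
      rwa [enc_inj (hx.trans (hx₀.trans hzx).symm), show x₀ * ((tqH (lq m))⁻¹ *
        ((tqH (ly m) * (x₀ * (tqH (lq m))⁻¹))⁻¹ * s)) = (tqH (ly m))⁻¹ * s by group] at gx
  have all : ∀ q < 3906, Q q := by
    intro q hq
    have h := hc q hq
    simp only [coverOK, Bool.true_and, Nat.add_zero] at h
    cases hz : Nat.beq (lp q) 0 with
    | true => rw [hz, cond_true] at h; exact root _ (List.contains_iff_mem.1 h)
    | false =>
      simp only [hz, cond_false, Bool.and_eq_true] at h
      have hne : lp q ≠ 0 := fun e => by rw [e] at hz; simp at hz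
      have hle : lp q ≤ nl := Nat.le_of_ble_eq_true h.1
      have h2 := link (lp q - 1) (by omega)
      rwa [Nat.eq_of_beq_eq_true h.2] at h2
  rintro _ ⟨x, rfl⟩
  obtain ⟨c, hcc, i, hi, q, hq, e⟩ := decomp x⁻¹
  have hs : ((c * r5H i)⁻¹ : Hg).1 ∈ Pg := Pg.inv_mem (pset_eq.1 ⟨c, hcc, i, hi, rfl⟩)
  have := all q hq _ hs
  rwa [show (tqH q)⁻¹ * (c * r5H i)⁻¹ = x by rw [← mul_inv_rev, ← e, inv_inv]] at this

theorem good0 : ∀ x, S.model.Ok x → Good S.model L cert live 0 x := by
  have h := pts_ok0
  rw [Bool.and_eq_true] at h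
  refine S.good_node h.1 h.2 (nl := 3905) (ly := ly0) (lq := lq0) (lf := lf0) (lp := lp0) ?_ ?_
  · intro m hm
    rcases Nat.lt_or_ge m 1000 with h | h0
    · exact linkRange_spec links_ok0_0 m (by omega) (by omega)
    rcases Nat.lt_or_ge m 2000 with h | h1
    · exact linkRange_spec links_ok0_1 m (by omega) (by omega)
    rcases Nat.lt_or_ge m 3000 with h | h2
    · exact linkRange_spec links_ok0_2 m (by omega) (by omega)
    rcases Nat.lt_or_ge m 3905 with h | h3
    · exact linkRange_spec links_ok0_3 m (by omega) (by omega)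
    omega
  · intro q hq
    rcases Nat.lt_or_ge q 1000 with h | h0
    · exact coverOK_spec cover_ok0_0 q (by omega) (by omega)
    rcases Nat.lt_or_ge q 2000 with h | h1
    · exact coverOK_spec cover_ok0_1 q (by omega) (by omega)
    rcases Nat.lt_or_ge q 3000 with h | h2
    · exact coverOK_spec cover_ok0_2 q (by omega) (by omega)
    rcases Nat.lt_or_ge q 3906 with h | h3
    · exact coverOK_spec cover_ok0_3 q (by omega) (by omega)
    omega

theorem good1 : ∀ x, S.model.Ok x → Good S.model L cert live 1 x := by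
  have h := pts_ok1
  rw [Bool.and_eq_true] at h
  refine S.good_node h.1 h.2 (nl := 3902) (ly := ly1) (lq := lq1) (lf := lf1) (lp := lp1) ?_ ?_
  · intro m hm
    rcases Nat.lt_or_ge m 1000 with h | h0
    · exact linkRange_spec links_ok1_0 m (by omega) (by omega)
    rcases Nat.lt_or_ge m 2000 with h | h1
    · exact linkRange_spec links_ok1_1 m (by omega) (by omega)
    rcases Nat.lt_or_ge m 3000 with h | h2
    · exact linkRange_spec links_ok1_2 m (by omega) (by omega)
    rcases Nat.lt_or_ge m 3902 with h | h3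
    · exact linkRange_spec links_ok1_3 m (by omega) (by omega)
    omega
  · intro q hq
    rcases Nat.lt_or_ge q 1000 with h | h0
    · exact coverOK_spec cover_ok1_0 q (by omega) (by omega)
    rcases Nat.lt_or_ge q 2000 with h | h1
    · exact coverOK_spec cover_ok1_1 q (by omega) (by omega)
    rcases Nat.lt_or_ge q 3000 with h | h2
    · exact coverOK_spec cover_ok1_2 q (by omega) (by omega)
    rcases Nat.lt_or_ge q 3906 with h | h3
    · exact coverOK_spec cover_ok1_3 q (by omega) (by omega)
    omega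

theorem good3 : ∀ x, S.model.Ok x → Good S.model L cert live 3 x := by
  have h := pts_ok3
  rw [Bool.and_eq_true] at h
  refine S.good_node h.1 h.2 (nl := 3901) (ly := ly3) (lq := lq3) (lf := lf3) (lp := lp3) ?_ ?_
  · intro m hm
    rcases Nat.lt_or_ge m 1000 with h | h0
    · exact linkRange_spec links_ok3_0 m (by omega) (by omega)
    rcases Nat.lt_or_ge m 2000 with h | h1
    · exact linkRange_spec links_ok3_1 m (by omega) (by omega)
    rcases Nat.lt_or_ge m 3000 with h | h2
    · exact linkRange_spec links_ok3_2 m (by omega) (by omega)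
    rcases Nat.lt_or_ge m 3901 with h | h3
    · exact linkRange_spec links_ok3_3 m (by omega) (by omega)
    omega
  · intro q hq
    rcases Nat.lt_or_ge q 1000 with h | h0
    · exact coverOK_spec cover_ok3_0 q (by omega) (by omega)
    rcases Nat.lt_or_ge q 2000 with h | h1
    · exact coverOK_spec cover_ok3_1 q (by omega) (by omega)
    rcases Nat.lt_or_ge q 3000 with h | h2
    · exact coverOK_spec cover_ok3_2 q (by omega) (by omega)
    rcases Nat.lt_or_ge q 3906 with h | h3
    · exact coverOK_spec cover_ok3_3 q (by omega) (by omega)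
    omega

theorem good4 : ∀ x, S.model.Ok x → Good S.model L cert live 4 x := by
  have h := pts_ok4
  rw [Bool.and_eq_true] at h
  refine S.good_node h.1 h.2 (nl := 3897) (ly := ly4) (lq := lq4) (lf := lf4) (lp := lp4) ?_ ?_
  · intro m hm
    rcases Nat.lt_or_ge m 1000 with h | h0
    · exact linkRange_spec links_ok4_0 m (by omega) (by omega)
    rcases Nat.lt_or_ge m 2000 with h | h1
    · exact linkRange_spec links_ok4_1 m (by omega) (by omega)
    rcases Nat.lt_or_ge m 3000 with h | h2
    · exact linkRange_spec links_ok4_2 m (by omega) (by omega)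
    rcases Nat.lt_or_ge m 3897 with h | h3
    · exact linkRange_spec links_ok4_3 m (by omega) (by omega)
    omega
  · intro q hq
    rcases Nat.lt_or_ge q 1000 with h | h0
    · exact coverOK_spec cover_ok4_0 q (by omega) (by omega)
    rcases Nat.lt_or_ge q 2000 with h | h1
    · exact coverOK_spec cover_ok4_1 q (by omega) (by omega)
    rcases Nat.lt_or_ge q 3000 with h | h2
    · exact coverOK_spec cover_ok4_2 q (by omega) (by omega)
    rcases Nat.lt_or_ge q 3906 with h | h3
    · exact coverOK_spec cover_ok4_3 q (by omega) (by omega)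
    omega

theorem good5 : ∀ x, S.model.Ok x → Good S.model L cert live 5 x := by
  have h := pts_ok5
  rw [Bool.and_eq_true] at h
  refine S.good_node h.1 h.2 (nl := 3896) (ly := ly5) (lq := lq5) (lf := lf5) (lp := lp5) ?_ ?_
  · intro m hm
    rcases Nat.lt_or_ge m 1000 with h | h0
    · exact linkRange_spec links_ok5_0 m (by omega) (by omega)
    rcases Nat.lt_or_ge m 2000 with h | h1
    · exact linkRange_spec links_ok5_1 m (by omega) (by omega)
    rcases Nat.lt_or_ge m 3000 with h | h2
    · exact linkRange_spec links_ok5_2 m (by omega) (by omega)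
    rcases Nat.lt_or_ge m 3896 with h | h3
    · exact linkRange_spec links_ok5_3 m (by omega) (by omega)
    omega
  · intro q hq
    rcases Nat.lt_or_ge q 1000 with h | h0
    · exact coverOK_spec cover_ok5_0 q (by omega) (by omega)
    rcases Nat.lt_or_ge q 2000 with h | h1
    · exact coverOK_spec cover_ok5_1 q (by omega) (by omega)
    rcases Nat.lt_or_ge q 3000 with h | h2
    · exact coverOK_spec cover_ok5_2 q (by omega) (by omega)
    rcases Nat.lt_or_ge q 3906 with h | h3
    · exact coverOK_spec cover_ok5_3 q (by omega) (by omega)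
    omega

theorem covered (hgen : S.φ.range ⊔ Subgroup.closure {S.t} = ⊤) (w : E) :
    Covered S.model L cert live w := by
  refine covered_all S.model (by decide) hgen (fun a ha => ?_) w
  simp only [live, List.mem_cons, List.not_mem_nil, or_false] at ha
  rcases ha with rfl | rfl | rfl | rfl | rfl
  · exact S.good0
  · exact S.good1
  · exact S.good3
  · exact S.good4
  · exact S.good5

theorem imgV_pack (x : Hg) (M : Mat) : imgV (enc x) (pack M) = pack ((x.1 : Mat) * M) := by
  rw [imgV, canonV_pack, cond_true, enc, mulP_pack]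

theorem imgV_out {a p : ℕ} (h : canonV p = false) : imgV a p = p := by
  rw [imgV, h, cond_false]

theorem imgV_mul (x y : Hg) (p : ℕ) : imgV (enc (x * y)) p = imgV (enc x) (imgV (enc y) p) := by
  cases h : canonV p with
  | false => rw [imgV_out h, imgV_out h, imgV_out h]
  | true =>
    rw [← canonV_iff h, imgV_pack, imgV_pack, imgV_pack, ← mul_assoc]
    rfl

theorem imgV_one (p : ℕ) : imgV (enc 1) p = p := by
  cases h : canonV p with
  | false => rw [imgV_out h]
  | true =>
    conv_lhs => rw [← canonV_iff h, imgV_pack, OneMemClass.coe_one, Units.val_one, one_mul, canonV_iff h]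

/-- points -/
def points : Points S.model where
  img := imgV
  mul := imgV_mul
  one := imgV_one

/-- lower bounds for the stabilisers -/
noncomputable def kLow : ℕ → ℕ
  | 1 => 300000
  | 3 => 6048
  | 4 => 2880
  | 5 => 1008
  | _ => Nat.card Hg

theorem stab_zero : stab S.model L cert 0 = ⊤ := by
  rw [eq_top_iff]
  intro k _
  have h1 : grep S.model cert 0 = 1 := rfl
  show DCert22.Rel L (grep S.model cert 0 * S.φ k) (grep S.model cert 0)
  rw [h1, one_mul, DCert22.Rel, inv_one, mul_one]
  exact S.range_le ⟨k, rfl⟩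

theorem hlow : ∀ a ∈ live, kLow a ≤ Nat.card (stab S.model L cert a) ∧ 0 < kLow a := by
  intro a ha
  simp only [live, List.mem_cons, List.not_mem_nil, or_false] at ha
  rcases ha with rfl | rfl | rfl | rfl | rfl
  · simp [kLow, S.stab_zero, Nat.card_pos]
  · exact ⟨le_trans (by decide) (le_card_stab S.model S.points S.all_hold levels_ok1), by decide⟩
  · exact ⟨le_trans (by decide) (le_card_stab S.model S.points S.all_hold levels_ok3), by decide⟩
  · exact ⟨le_trans (by decide) (le_card_stab S.model S.points S.all_hold levels_ok4), by decide⟩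
  · exact ⟨le_trans (by decide) (le_card_stab S.model S.points S.all_hold levels_ok5), by decide⟩

theorem sum_le : (live.map fun a => Nat.card Hg / kLow a).sum ≤ 8835156 := by
  have h := card_Hg_le
  have h0 : 0 < Nat.card Hg := Nat.card_pos
  simp only [live, List.map_cons, List.map_nil, List.sum_cons, List.sum_nil, kLow, Nat.div_self h0]
  omega

theorem index_le (hgen : S.φ.range ⊔ Subgroup.closure {S.t} = ⊤) :
    L.FiniteIndex ∧ L.index ≤ 8835156 :=
  have h := index_le_of_covered S.model (S.covered hgen) S.hlow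
  ⟨h.1, h.2.trans sum_le⟩

end Setup

end CfsgLib.Ly33
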