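import Cfsg.Agent.LyIndex33.Glue
import Cfsg.Agent.LyExist36.Main

/-!
The intersections of the subgroup generated by a, b, c, d with its conjugates at the live nodes,
from the exact index; the node with stabiliser of order 1008 as a word in letters.
-/

set_option autoImplicit false
set_option maxRecDepth 100000

namespace CfsgLib.Ly33

open CfsgLib.DCert22 CfsgLib.CosetEnum Cfsg.Spor

attribute [local irreducible] mulP invP gA gB gC gD

/-- with exact index, the intersection with the conjugate at a live node has the listed order -/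
theorem card_inf_conj (hex : Ly95.abcd.index = 8835156) {a : ℕ} (ha : a ∈ live) :
    Nat.card (Ly95.abcd ⊓ Ly95.abcd.comap (MulAut.conj (grep lySetup.model cert a)).toMonoidHom :
      Subgroup Ly) = Setup.kLow a := by
  rw [← lySetup.stab_card_eq lySetup_gen hex ha]
  set g := grep lySetup.model cert a
  have hmap : Ly95.abcd ⊓ Ly95.abcd.comap (MulAut.conj g).toMonoidHom =
      (stab lySetup.model Ly95.abcd cert a).map phiLy := by
    ext x
    rw [Subgroup.mem_map, Subgroup.mem_inf, Subgroup.mem_comap]
    constructor
    · rintro ⟨h1, h2⟩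
      rw [show Ly95.abcd = phiLy.range from phiLy_range.symm] at h1
      obtain ⟨k, rfl⟩ := h1
      exact ⟨k, h2, rfl⟩
    · rintro ⟨k, hk, rfl⟩
      exact ⟨phiLy_range.le ⟨k, rfl⟩, hk⟩
  rw [hmap]
  exact (Nat.card_congr (Subgroup.equivMapOfInjective _ phiLy phiLy_injective).toEquiv).symm

theorem letter_lets : ∀ x, x ∈ [0, 2, 6] → LyRep96.letter x = phiLy (LyG2.lets hv x) := by
  intro x hx
  simp only [List.mem_cons, List.not_mem_nil, or_false] at hx
  rcases hx with rfl | rfl | rfl
  · exact phiLy_A.symm
  · exact phiLy_B.symm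
  · exact phiLy_D.symm

theorem el_lets : ∀ w : List ℕ, (∀ x ∈ w, x ∈ [0, 2, 6]) →
    LyExist36.el w = phiLy (gword (LyG2.lets hv) w)
  | [], _ => by simp [LyExist36.el, gword]
  | c :: w, h => by
    rw [gword_cons, map_mul, ← letter_lets c (h c (by simp)),
      ← el_lets w fun x hx => h x (by simp [hx])]
    simp [LyExist36.el]

/-- the middle part of the word of node five -/
def mid5 : List ℕ := [0,0,0,0,0,2,0,2,2,2,2,2,2,0,2,2,2,2,2,2,2,2,2,2,2,0,6]

theorem mid5_code : wordP mid5 = (cert.nodes.getD 4 (0, 0)).2 := by decide +kernel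

theorem grep_five : grep lySetup.model cert 5 = LyExist36.el LyExist36.gWord := by
  have h1 : grep lySetup.model cert 1 = lySetup.t := by
    show (1 : Ly) * lySetup.model.val _ * lySetup.t = _
    rw [show (39402006196394479214415027136064523887590553065872314977980846013346449130061698275692255149584597951633472719159297 : ℕ) = enc (1 : Hg) from enc_one.symm]
    rw [one_mul]
    erw [lySetup.model.val_enc]
    rw [map_one, one_mul]
  have h5 : grep lySetup.model cert 5 =
      grep lySetup.model cert 1 * lySetup.model.val (cert.nodes.getD 4 (0, 0)).2 * lySetup.t := rfl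
  rw [h5, h1, ← mid5_code, ← enc_gword]
  erw [lySetup.model.val_enc]
  show lySetup.t * phiLy _ * lySetup.t = _
  rw [← el_lets mid5 (by decide)]
  show LyExist36.el [8] * LyExist36.el mid5 * LyExist36.el [8] = _
  rw [← LyExist36.el_append, ← LyExist36.el_append]
  rfl

/-- the node bound used for the involution centraliser -/
theorem card_gWord_le (hex : Ly95.abcd.index = 8835156) :
    Nat.card (LyExist36.HH ⊓ LyExist36.HH.comap (MulAut.conj (LyExist36.el LyExist36.gWord)).toMonoidHom :
      Subgroup Ly) ≤ 1008 := by
  rw [← grep_five]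
  exact (card_inf_conj hex (a := 5) (by decide)).le

end CfsgLib.Ly33
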